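import Groth.Agent.Calg1.Popescu.Popescu
import Groth.Agent.Hensel1.SmoothLift
import Groth.Agent.Hensel1.Pairs
import Groth.Agent.Hensel1.Local
import Groth.Agent.AdicLinTop.CompletionQuot
import Groth.Agent.S0543
import Mathlib.RingTheory.Henselian

/-!
Approximation of solutions in completions along regular maps.
-/

set_option autoImplicit false
set_option linter.style.haveILetI false

universe u

open MvPolynomial
open scoped TensorProduct

namespace Groth.Calg1.Popescu

/-- A solution in a regular algebra comes from a solution in a smooth algebra. -/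
theorem exists_smooth_solution {R Λ : Type u} [CommRing R] [IsNoetherianRing R] [CommRing Λ]
    [IsNoetherianRing Λ] [Algebra R Λ] (hreg : CAlg.IsRegularHom R Λ) {n m : ℕ}
    (F : Fin m → MvPolynomial (Fin n) R) (a : Fin n → Λ) (ha : ∀ j, aeval a (F j) = 0) :
    ∃ (T : Type u) (_ : CommRing T) (_ : Algebra R T), Algebra.Smooth R T ∧
      ∃ (ψ : T →ₐ[R] Λ) (c : Fin n → T), (∀ j, aeval c (F j) = 0) ∧ ∀ i, ψ (c i) = a i := by
  let J : Ideal (MvPolynomial (Fin n) R) := Ideal.span (Set.range F)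
  have hJ : J ≤ RingHom.ker (aeval a) := Ideal.span_le.2 (by rintro _ ⟨j, rfl⟩; exact ha j)
  have : Algebra.FinitePresentation R (MvPolynomial (Fin n) R ⧸ J) :=
    Algebra.FinitePresentation.quotient (Submodule.fg_span (Set.finite_range F))
  obtain ⟨T, _, _, hT, g, h, hgh⟩ := indSmooth_of_regularHom hreg (MvPolynomial (Fin n) R ⧸ J) inferInstance
    (Ideal.Quotient.liftₐ J (aeval a) fun x hx => hJ hx)
  refine ⟨T, inferInstance, inferInstance, hT, h, fun i => g (Ideal.Quotient.mk J (X i)), fun j => ?_, fun i => ?_⟩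
  · have h1 : (aeval fun i => g (Ideal.Quotient.mk J (X i))) = g.comp (Ideal.Quotient.mkₐ R J) :=
      MvPolynomial.algHom_ext fun i => by simp
    rw [h1]
    show g (Ideal.Quotient.mk J (F j)) = 0
    rw [Ideal.Quotient.eq_zero_iff_mem.2 (Ideal.subset_span (Set.mem_range_self j)), map_zero]
  · exact (AlgHom.congr_fun hgh _).trans (aeval_X a i)

/-- Approximation in a henselian pair with regular completion map. -/
theorem exists_approx {A : Type u} [CommRing A] [IsNoetherianRing A] (I : Ideal A) [HenselianRing A I]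
    (hreg : CAlg.IsRegularHom A (AdicCompletion I A)) {n m : ℕ} (F : Fin m → MvPolynomial (Fin n) A)
    (a : Fin n → AdicCompletion I A) (ha : ∀ j, aeval a (F j) = 0) (N : ℕ) :
    ∃ b : Fin n → A, (∀ j, aeval b (F j) = 0) ∧
      ∀ i, a i - algebraMap A (AdicCompletion I A) (b i) ∈ (I ^ N).map (algebraMap A (AdicCompletion I A)) := by
  have : IsNoetherianRing (AdicCompletion I A) := Groth.Agent.S0543.result A I
  obtain ⟨T, _, _, hT, ψ, c, hc, hψc⟩ := exists_smooth_solution hreg F a ha
  have hH : HenselianRing A (I ^ (N + 1)) := Groth.Hensel1.henselianRing_of_le_radical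
    ((Ideal.pow_le_self N.succ_ne_zero).trans Ideal.le_radical)
  obtain ⟨s, hs⟩ := Groth.Hensel1.exists_smooth_lift (T := T) (I := I ^ (N + 1))
    (Groth.Hensel1.henselianRing_iff_gabber.1 hH) ((AdicCompletion.evalₐ I (N + 1)).comp ψ)
  refine ⟨fun i => s (c i), fun j => ?_, fun i => ?_⟩
  · rw [← comp_aeval_apply c s (F j), hc, map_zero]
  · have h1 : a i - algebraMap A (AdicCompletion I A) (s (c i)) ∈
        RingHom.ker (AdicCompletion.evalₐ I (N + 1)).toRingHom := by
      rw [RingHom.mem_ker, map_sub, ← hψc, sub_eq_zero]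
      refine (AlgHom.congr_fun hs (c i)).symm.trans ?_
      exact (Groth.AdicLinTop.CompletionQuot.evalₐ_algebraMap I (N + 1) (s (c i))).symm
    rw [Groth.AdicLinTop.CompletionQuot.ker_evalₐ I (IsNoetherian.noetherian I), ← Ideal.map_pow] at h1
    exact Ideal.map_mono (Ideal.pow_le_pow_right N.le_succ) h1

/-- A point of a smooth algebra in a quotient of a localization of the base factors through an étale algebra. -/
theorem exists_etale_point {R T L : Type u} [CommRing R] [CommRing T] [Algebra R T] [Algebra.Smooth R T]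
    [CommRing L] [Algebra R L] (M : Submonoid R) [IsLocalization M L] (J : Ideal L) (σ : T →ₐ[R] L ⧸ J) :
    ∃ (E : Type u) (_ : CommRing E) (_ : Algebra R E) (τ : T →ₐ[R] E) (ρ : E →ₐ[R] L ⧸ J),
      Algebra.Etale R E ∧ ρ.comp τ = σ := by
  obtain ⟨B, _, _, _, _, -, ⟨r⟩, hB⟩ :=
    Groth.NeronArea.StandardSmoothRetract.exists_smooth_retract (R := R) (A := T)
  obtain ⟨n, g, hgC, hg⟩ := RingHom.IsStandardSmooth.exists_etale_mvPolynomial
    (f := algebraMap R B) (RingHom.isStandardSmooth_algebraMap.mpr hB)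
  let := g.toAlgebra
  have : IsScalarTower R (MvPolynomial (Fin n) R) B := IsScalarTower.of_algebraMap_eq fun a =>
    (RingHom.congr_fun hgC a).symm
  have : Algebra.Etale (MvPolynomial (Fin n) R) B := RingHom.etale_algebraMap.mp hg
  let ψ : B →ₐ[R] L ⧸ J := σ.comp (r.restrictScalars R)
  choose l hl using fun i => Ideal.Quotient.mk_surjective (I := J) (ψ (g (X i)))
  obtain ⟨⟨s, hsM⟩, hs⟩ := IsLocalization.exist_integer_multiples_of_finite M l
  choose e he using hs
  have hsu : IsUnit (algebraMap R L s) := IsLocalization.map_units L (⟨s, hsM⟩ : M)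
  let R' := Localization.Away s
  let toL : R' →ₐ[R] L := IsLocalization.Away.liftAlgHom (f := Algebra.ofId R L) s hsu
  let a : Fin n → R' := fun i => IsLocalization.mk' R' (e i) (⟨s, 1, pow_one s⟩ : Submonoid.powers s)
  have hal : ∀ i, toL (a i) = l i := fun i => by
    refine hsu.mul_left_cancel ?_
    have h1 : toL (algebraMap R R' s) * toL (a i) = toL (algebraMap R R' (e i)) := by
      rw [← map_mul]
      exact congrArg toL (IsLocalization.mk'_spec' R' (e i) (⟨s, 1, pow_one s⟩ : Submonoid.powers s))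
    rw [AlgHom.commutes, AlgHom.commutes] at h1
    rw [h1, he i, Algebra.smul_def]
  let := (aeval a : MvPolynomial (Fin n) R →ₐ[R] R').toRingHom.toAlgebra
  have : IsScalarTower R (MvPolynomial (Fin n) R) R' := IsScalarTower.of_algebraMap_eq fun x =>
    ((aeval a).commutes x).symm
  let q : R' →ₐ[R] L ⧸ J := (Ideal.Quotient.mkₐ R J).comp toL
  let := (q.comp (IsScalarTower.toAlgHom R (MvPolynomial (Fin n) R) R')).toRingHom.toAlgebra
  let q' : R' →ₐ[MvPolynomial (Fin n) R] L ⧸ J := { q with commutes' := fun _ => rfl }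
  have hψ : ψ.comp (IsScalarTower.toAlgHom R (MvPolynomial (Fin n) R) B) =
      q.comp (IsScalarTower.toAlgHom R (MvPolynomial (Fin n) R) R') :=
    MvPolynomial.algHom_ext fun i => by
      show ψ (g (X i)) = Ideal.Quotient.mk J (toL (aeval a (X i)))
      rw [aeval_X, hal, hl]
  let ψ' : B →ₐ[MvPolynomial (Fin n) R] L ⧸ J := { ψ with commutes' := fun x => AlgHom.congr_fun hψ x }
  let ρ' : R' ⊗[MvPolynomial (Fin n) R] B →ₐ[MvPolynomial (Fin n) R] L ⧸ J :=
    Algebra.TensorProduct.lift q' ψ' fun _ _ => Commute.all _ _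
  let ρ : R' ⊗[MvPolynomial (Fin n) R] B →ₐ[R] L ⧸ J :=
    { ρ' with
      commutes' := fun x =>
        (Algebra.TensorProduct.lift_tmul q' ψ' _ (algebraMap R R' x) 1).trans
          ((congrArg (q' (algebraMap R R' x) * ·) (map_one ψ')).trans ((mul_one _).trans (q.commutes x))) }
  have : Algebra.Etale R R' := Algebra.Etale.of_isLocalizationAway s
  have : Algebra.Etale R (R' ⊗[MvPolynomial (Fin n) R] B) :=
    Algebra.Etale.comp R R' (R' ⊗[MvPolynomial (Fin n) R] B)
  let ι : B →ₐ[R] R' ⊗[MvPolynomial (Fin n) R] B :=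
    (Algebra.TensorProduct.includeRight (R := MvPolynomial (Fin n) R) (A := R') (B := B)).restrictScalars R
  refine ⟨R' ⊗[MvPolynomial (Fin n) R] B, inferInstance, inferInstance,
    ι.comp (IsScalarTower.toAlgHom R T B), ρ, inferInstance, AlgHom.ext fun t => ?_⟩
  show ρ' (1 ⊗ₜ algebraMap T B t) = σ t
  rw [Algebra.TensorProduct.lift_tmul, map_one, one_mul]
  exact congrArg σ (r.commutes t)

set_option maxHeartbeats 1000000 in
/-- Étale approximation at a localization with regular completion map. -/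
theorem exists_etale_solution {R L : Type u} [CommRing R] [IsNoetherianRing R] [CommRing L] [IsLocalRing L]
    [IsNoetherianRing L] [Algebra R L] (M : Submonoid R) [IsLocalization M L]
    (hreg : CAlg.IsRegularHom R (AdicCompletion (IsLocalRing.maximalIdeal L) L)) {n m : ℕ}
    (F : Fin m → MvPolynomial (Fin n) R) (a : Fin n → AdicCompletion (IsLocalRing.maximalIdeal L) L)
    (ha : ∀ j, aeval a (F j) = 0) (N : ℕ) :
    ∃ (E : Type u) (_ : CommRing E) (_ : Algebra R E), Algebra.Etale R E ∧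
      ∃ (ψ : E →ₐ[R] AdicCompletion (IsLocalRing.maximalIdeal L) L) (ν : E →ₐ[R] IsLocalRing.ResidueField L),
        (∀ x, ν x = 0 → ψ x ∈ (IsLocalRing.maximalIdeal L).map
          (algebraMap L (AdicCompletion (IsLocalRing.maximalIdeal L) L))) ∧
        ∃ b : Fin n → E, (∀ j, aeval b (F j) = 0) ∧
          ∀ i, a i - ψ (b i) ∈ (IsLocalRing.maximalIdeal L ^ N).map
            (algebraMap L (AdicCompletion (IsLocalRing.maximalIdeal L) L)) := by
  let 𝔪 := IsLocalRing.maximalIdeal L
  let C := AdicCompletion (IsLocalRing.maximalIdeal L) L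
  have hfg : 𝔪.FG := IsNoetherian.noetherian _
  have : IsNoetherianRing C := Groth.Agent.S0543.result L 𝔪
  let J : Ideal C := (𝔪.map (algebraMap L C)) ^ (N + 1)
  obtain ⟨T, _, _, hT, ψ₀, c, hc, hψc⟩ := exists_smooth_solution hreg F a ha
  let ev : C →ₐ[R] L ⧸ 𝔪 ^ (N + 1) := (AdicCompletion.evalₐ 𝔪 (N + 1)).restrictScalars R
  obtain ⟨E, _, _, τ, ρ, _, hρ⟩ := exists_etale_point M (𝔪 ^ (N + 1)) (ev.comp ψ₀)
  -- the point in the completion
  have hev : Function.Surjective ev := fun x => by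
    obtain ⟨x, rfl⟩ := Ideal.Quotient.mk_surjective x
    exact ⟨algebraMap L C x, Groth.AdicLinTop.CompletionQuot.evalₐ_algebraMap 𝔪 (N + 1) x⟩
  have hker : RingHom.ker ev.toRingHom = J := Groth.AdicLinTop.CompletionQuot.ker_evalₐ 𝔪 hfg (N + 1)
  let e : (C ⧸ J) ≃ₐ[R] (L ⧸ 𝔪 ^ (N + 1)) :=
    (Ideal.quotientEquivAlgOfEq R hker.symm).trans (Ideal.quotientKerAlgEquivOfSurjective hev)
  have he : ∀ x, e (Ideal.Quotient.mk J x) = ev x := fun x => rfl
  let σ : C ⊗[R] E →ₐ[C] C ⧸ J := Algebra.TensorProduct.lift (Ideal.Quotient.mkₐ C J)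
    (e.symm.toAlgHom.comp ρ) fun _ _ => Commute.all _ _
  have : IsAdicComplete (𝔪.map (algebraMap L C)) C := Groth.AdicLinTop.CompletionQuot.isAdicComplete_map 𝔪 hfg
  have hH : HenselianRing C (𝔪.map (algebraMap L C)) := inferInstance
  have hHJ : HenselianRing C J := Groth.Hensel1.henselianRing_of_le_radical (I := 𝔪.map (algebraMap L C))
    ((Ideal.pow_le_self N.succ_ne_zero).trans Ideal.le_radical)
  obtain ⟨t, ht⟩ := Groth.Hensel1.exists_etale_lift (Groth.Hensel1.henselianRing_iff_gabber.1 hHJ) σ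
  let ψ : E →ₐ[R] C := (t.restrictScalars R).comp Algebra.TensorProduct.includeRight
  have hψ : ∀ x, ev (ψ x) = ρ x := fun x => by
    rw [← he]
    have h1 : Ideal.Quotient.mk J (ψ x) = σ (1 ⊗ₜ x) := AlgHom.congr_fun ht (1 ⊗ₜ x)
    rw [h1]
    show e (Algebra.TensorProduct.lift _ _ _ (1 ⊗ₜ x)) = _
    rw [Algebra.TensorProduct.lift_tmul, map_one, one_mul]
    exact e.apply_symm_apply _
  let π₁ : (L ⧸ 𝔪 ^ (N + 1)) →ₐ[R] IsLocalRing.ResidueField L :=
    { Ideal.Quotient.factor (Ideal.pow_le_self N.succ_ne_zero) with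
      commutes' := fun x => rfl }
  refine ⟨E, inferInstance, inferInstance, inferInstance, ψ, π₁.comp ρ, fun x hx => ?_, fun i => τ (c i),
    fun j => ?_, fun i => ?_⟩
  · obtain ⟨l, hl⟩ := Ideal.Quotient.mk_surjective (ρ x)
    have hlm : l ∈ 𝔪 := by
      change π₁ (ρ x) = 0 at hx
      rw [← hl] at hx
      exact Ideal.Quotient.eq_zero_iff_mem.1 hx
    have h1 : ψ x - algebraMap L C l ∈ RingHom.ker ev.toRingHom := by
      rw [RingHom.mem_ker, map_sub, sub_eq_zero]
      exact (hψ x).trans (hl.symm.trans (Groth.AdicLinTop.CompletionQuot.evalₐ_algebraMap 𝔪 (N + 1) l).symm)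
    rw [hker] at h1
    rw [← sub_add_cancel (ψ x) (algebraMap L C l)]
    exact add_mem (Ideal.pow_le_self N.succ_ne_zero h1) (Ideal.mem_map_of_mem _ hlm)
  · rw [← comp_aeval_apply c τ (F j), hc, map_zero]
  · have h1 : a i - ψ (τ (c i)) ∈ RingHom.ker ev.toRingHom := by
      rw [RingHom.mem_ker, map_sub, sub_eq_zero, ← hψc]
      exact (AlgHom.congr_fun hρ (c i)).symm.trans (hψ _).symm
    rw [hker] at h1
    change a i - ψ (τ (c i)) ∈ (𝔪.map (algebraMap L C)) ^ (N + 1) at h1
    rw [← Ideal.map_pow] at h1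
    exact Ideal.map_mono (Ideal.pow_le_pow_right N.le_succ) h1

end Groth.Calg1.Popescu
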