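import Groth.Prelude.Def_CAlgX
import Groth.Agent.Ega41Flat.FlatLift
import Mathlib.Algebra.MvPolynomial.PDeriv
import Mathlib.RingTheory.Flat.EquationalCriterion

/-!
Relations with vanishing differential among the residues of a formally smooth local algebra give
independent elements of the cotangent space.
-/

set_option autoImplicit false
set_option linter.style.haveILetI false
set_option backward.isDefEq.respectTransparency false

universe u

open MvPolynomial IsLocalRing

namespace Groth.Calg1.Popescu

/-- Taylor expansion along a square-zero perturbation. -/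
theorem aeval_add_of_mul_eq_zero {R S : Type*} [CommRing R] [CommRing S] [Algebra R S] {n : ℕ}
    (a v : Fin n → S) (hv : ∀ i j, v i * v j = 0) (h : MvPolynomial (Fin n) R) :
    aeval (fun i => a i + v i) h = aeval a h + ∑ i, v i * aeval a (pderiv i h) := by
  induction h using MvPolynomial.induction_on with
  | C c => simp
  | add p q hp hq => simp only [map_add, hp, hq, mul_add, Finset.sum_add_distrib]; ring
  | mul_X p k hp =>
    have hsum : ∑ i, v i * aeval a (pderiv i (p * X k)) =
        a k * (∑ i, v i * aeval a (pderiv i p)) + aeval a p * v k := by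
      simp only [pderiv_mul, map_add, map_mul, aeval_X, mul_add, Finset.sum_add_distrib, Finset.mul_sum]
      congr 1
      · exact Finset.sum_congr rfl fun i _ => by ring
      · rw [Finset.sum_eq_single k]
        · simp [mul_comm]
        · intro i _ hi; simp [pderiv_X_of_ne hi.symm]
        · simp
    have hz : (∑ i, v i * aeval a (pderiv i p)) * v k = 0 := by
      rw [Finset.sum_mul]
      exact Finset.sum_eq_zero fun i _ => by linear_combination (aeval a (pderiv i p)) * hv i k
    rw [map_mul, hp, aeval_X, hsum, map_mul, aeval_X]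
    linear_combination hz

/-- The core of the independence statement, over an auxiliary square-zero local ring. -/
theorem mem_maximalIdeal_of_sum_mem_sq_aux {k L W : Type u} [Field k] [CommRing L] [IsLocalRing L] [Algebra k L]
    (hL : CAlgX.IsAdicFormallySmooth k L (maximalIdeal L)) [CommRing W] [IsLocalRing W] [IsNoetherianRing W]
    [Algebra k W] (hW2 : maximalIdeal W ^ 2 = ⊥) {n c : ℕ} (y : Fin n → L)
    (ω : MvPolynomial (Fin n) k →ₐ[k] W) (φW : W →ₐ[k] ResidueField L)
    (hker : ∀ w ∈ maximalIdeal W, φW w = 0) (hφ : ∀ x, φW (ω x) = residue L (aeval y x))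
    (f : Fin c → MvPolynomial (Fin n) k) (hd : ∀ j i, aeval y (pderiv i (f j)) ∈ maximalIdeal L)
    (hind : ∀ a : Fin c → W, ∑ j, a j * ω (f j) = 0 → ∀ j, a j ∈ maximalIdeal W)
    (l : Fin c → L) (hl : ∑ j, l j * aeval y (f j) ∈ maximalIdeal L ^ 2) (j : Fin c) :
    l j ∈ maximalIdeal L := by
  let ev : MvPolynomial (Fin n) k →ₐ[k] L := aeval y
  letI : Algebra (ResidueField W) (ResidueField L) :=
    (Ideal.Quotient.lift (maximalIdeal W) φW.toRingHom hker).toAlgebra
  haveI : IsAdicComplete (maximalIdeal (ResidueField L)) (ResidueField L) := by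
    rw [IsLocalRing.isField_iff_maximalIdeal_eq.mp (Field.toIsField _)]
    infer_instance
  haveI : IsRegularLocalRing (ResidueField L) := inferInstance
  obtain ⟨B, _, _, _, _, _, π, -, hflat, hπs, hπk, hπ⟩ :=
    Groth.Ega41Flat.exists_flat_lift (A := W) (ResidueField L)
  letI : Algebra k B := (RingHom.comp (algebraMap W B) (algebraMap k W)).toAlgebra
  haveI : IsScalarTower k W B := IsScalarTower.of_algebraMap_eq' rfl
  have hπW : ∀ w, π (algebraMap W B w) = φW w := fun w => hπ w
  let V : Ideal B := RingHom.ker π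
  have hV2 : V ^ 2 = ⊥ := by
    show RingHom.ker π ^ 2 = ⊥
    rw [hπk, ← Ideal.map_pow, hW2, Ideal.map_bot]
  let πk : B →ₐ[k] ResidueField L :=
    { π with commutes' := fun c => (hπW (algebraMap k W c)).trans (φW.commutes c) }
  let e := Ideal.quotientKerAlgEquivOfSurjective (f := πk) hπs
  let ψ : L →ₐ[k] B ⧸ V := e.symm.toAlgHom.comp (IsScalarTower.toAlgHom k L (ResidueField L))
  obtain ⟨χ, hχ⟩ := hL B V hV2 ψ ⟨1, fun x hx => by
    rw [pow_one] at hx
    show e.symm (residue L x) = 0
    rw [show residue L x = 0 from Ideal.Quotient.eq_zero_iff_mem.2 hx, map_zero]⟩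
  have hπχ : ∀ x, π (χ x) = residue L x := fun x => by
    have h1 : Ideal.Quotient.mk V (χ x) = e.symm (residue L x) := AlgHom.congr_fun hχ x
    have h2 := congrArg e h1
    rw [AlgEquiv.apply_symm_apply] at h2
    exact h2
  let ι : MvPolynomial (Fin n) k →ₐ[k] B := (IsScalarTower.toAlgHom k W B).comp ω
  have hπι : ∀ x, π (ι x) = residue L (ev x) := fun x => (hπW _).trans (hφ x)
  have hVmul : ∀ a ∈ V, ∀ b ∈ V, a * b = 0 := fun a ha b hb => by
    have := Ideal.mul_mem_mul ha hb
    rwa [← pow_two, hV2, Ideal.mem_bot] at this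
  let a : Fin n → B := fun i => ι (X i)
  let v : Fin n → B := fun i => χ (y i) - ι (X i)
  have hv : ∀ i, v i ∈ V := fun i => by
    rw [RingHom.mem_ker, map_sub, hπχ, hπι, show ev (X i) = y i from aeval_X _ i, sub_self]
  have hιa : ∀ g, ι g = aeval a g := fun g => (aeval_unique ι) ▸ rfl
  have hkey : ∀ i, χ (ev (f i)) = ι (f i) := by
    intro i
    have h1 : χ (ev (f i)) = aeval (fun l => a l + v l) (f i) := by
      rw [show χ (ev (f i)) = (χ.comp ev) (f i) from rfl, show χ.comp ev = aeval fun l => a l + v l from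
        MvPolynomial.algHom_ext fun l => by simp [ev, a, v]]
    rw [h1, aeval_add_of_mul_eq_zero a v (fun p q => hVmul _ (hv p) _ (hv q)), ← hιa]
    refine add_eq_left.2 (Finset.sum_eq_zero fun l _ => hVmul _ (hv l) _ ?_)
    rw [RingHom.mem_ker, ← hιa, hπι]
    exact Ideal.Quotient.eq_zero_iff_mem.2 (hd i l)
  have hm : ∀ x ∈ maximalIdeal L, χ x ∈ V := fun x hx => by
    rw [RingHom.mem_ker, hπχ]
    exact Ideal.Quotient.eq_zero_iff_mem.2 hx
  have hsum : ∑ i, ω (f i) • χ (l i) = 0 := by
    have h1 : χ (∑ i, l i * ev (f i)) ∈ V ^ 2 :=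
      (Ideal.map_pow χ _ 2).trans_le (Ideal.pow_right_mono (Ideal.map_le_iff_le_comap.2 hm) 2)
        (Ideal.mem_map_of_mem χ hl)
    rw [hV2, Ideal.mem_bot, map_sum] at h1
    refine Eq.trans (Finset.sum_congr rfl fun i _ => ?_) h1
    rw [map_mul, hkey, Algebra.smul_def, mul_comm]
    rfl
  obtain ⟨K, α, z, hz, hα⟩ := Module.Flat.isTrivialRelation_of_sum_smul_eq_zero (R := W) (M := B) (f := fun i => ω (f i)) (x := fun i => χ (l i)) hsum
  have hαm : ∀ i q, α i q ∈ maximalIdeal W := fun i q => hind (fun i => α i q) (by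
    refine Eq.trans (Finset.sum_congr rfl fun i _ => ?_) (hα q)
    rw [mul_comm]) i
  rw [← Ideal.Quotient.eq_zero_iff_mem]
  change residue L (l j) = 0
  rw [← hπχ, show χ (l j) = ∑ q, α j q • z q from hz j, map_sum]
  refine Finset.sum_eq_zero fun q _ => ?_
  rw [Algebra.smul_def, map_mul, hπW, hker _ (hαm j q), zero_mul]


/-- Elements of the contracted prime whose differentials vanish at the point and which are independent
modulo its square stay independent modulo the square of the maximal ideal. -/
theorem mem_maximalIdeal_of_sum_mem_sq {k L : Type u} [Field k] [CommRing L] [IsLocalRing L] [Algebra k L]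
    (hL : CAlgX.IsAdicFormallySmooth k L (maximalIdeal L)) {n c : ℕ} (y : Fin n → L)
    (f : Fin c → MvPolynomial (Fin n) k)
    (hf : ∀ j, f j ∈ (maximalIdeal L).comap (aeval (R := k) y))
    (hd : ∀ j i, aeval y (pderiv i (f j)) ∈ maximalIdeal L)
    (hind : ∀ a : Fin c → Localization.AtPrime ((maximalIdeal L).comap (aeval (R := k) y)),
      ∑ j, a j * algebraMap _ _ (f j) ∈
          maximalIdeal (Localization.AtPrime ((maximalIdeal L).comap (aeval (R := k) y))) ^ 2 →
        ∀ j, a j ∈ maximalIdeal (Localization.AtPrime ((maximalIdeal L).comap (aeval (R := k) y))))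
    (l : Fin c → L) (hl : ∑ j, l j * aeval y (f j) ∈ maximalIdeal L ^ 2) (j : Fin c) :
    l j ∈ maximalIdeal L := by
  let P := MvPolynomial (Fin n) k
  let r₀ : Ideal P := (maximalIdeal L).comap (aeval (R := k) y)
  let F := Localization.AtPrime r₀
  let ev : P →ₐ[k] L := aeval y
  have hev : ∀ x : r₀.primeCompl, IsUnit (ev x) := fun x => notMem_maximalIdeal.1 x.2
  let φF : F →ₐ[k] L := IsLocalization.liftAlgHom (M := r₀.primeCompl) (f := ev) hev
  have hφF : ∀ x, φF (algebraMap P F x) = ev x := fun x => IsLocalization.lift_eq hev x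
  have hloc : ∀ x ∈ maximalIdeal F, φF x ∈ maximalIdeal L := by
    suffices h : maximalIdeal F ≤ (maximalIdeal L).comap φF from fun x hx => h hx
    rw [← Localization.AtPrime.map_eq_maximalIdeal, Ideal.map_le_iff_le_comap]
    intro x hx
    rw [Ideal.mem_comap, Ideal.mem_comap, hφF]
    exact hx
  let J : Ideal F := maximalIdeal F ^ 2
  have hJne : J ≠ ⊤ := ne_top_of_le_ne_top (maximalIdeal.isMaximal F).ne_top (Ideal.pow_le_self two_ne_zero)
  let W := F ⧸ J
  haveI : Nontrivial W := Ideal.Quotient.nontrivial_iff.2 hJne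
  haveI : IsLocalRing W := IsLocalRing.of_surjective' (Ideal.Quotient.mk J) Ideal.Quotient.mk_surjective
  haveI : IsNoetherianRing F := IsLocalization.isNoetherianRing r₀.primeCompl F inferInstance
  have hmW : maximalIdeal W = (maximalIdeal F).map (Ideal.Quotient.mk J) :=
    (IsLocalRing.map_maximalIdeal_of_surjective _ Ideal.Quotient.mk_surjective).symm
  have hmF : ∀ u : F, Ideal.Quotient.mk J u ∈ maximalIdeal W → u ∈ maximalIdeal F := fun u hu =>
    (IsLocalRing.mem_maximalIdeal u).2 fun h => (IsLocalRing.mem_maximalIdeal _).1 hu (h.map _)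
  let φW : W →ₐ[k] ResidueField L := Ideal.Quotient.liftₐ J
    ((IsScalarTower.toAlgHom k L (ResidueField L)).comp φF) fun x hx =>
      Ideal.Quotient.eq_zero_iff_mem.2 (hloc x (Ideal.pow_le_self two_ne_zero hx))
  have hker : ∀ w ∈ maximalIdeal W, φW w = 0 := by
    intro w hw
    rw [hmW, Ideal.mem_map_iff_of_surjective _ Ideal.Quotient.mk_surjective] at hw
    obtain ⟨x, hx, rfl⟩ := hw
    exact Ideal.Quotient.eq_zero_iff_mem.2 (hloc x hx)
  refine mem_maximalIdeal_of_sum_mem_sq_aux hL (W := W) ?_ y
    ((IsScalarTower.toAlgHom k F W).comp (IsScalarTower.toAlgHom k P F)) φW hker (fun x => ?_) f hd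
    (fun a ha j => ?_) l hl j
  · rw [eq_bot_iff, pow_two, Ideal.mul_le]
    intro u hu v hv
    obtain ⟨u, rfl⟩ := Ideal.Quotient.mk_surjective u
    obtain ⟨v, rfl⟩ := Ideal.Quotient.mk_surjective v
    rw [Ideal.mem_bot, ← map_mul, Ideal.Quotient.eq_zero_iff_mem]
    show u * v ∈ maximalIdeal F ^ 2
    rw [pow_two]
    exact Ideal.mul_mem_mul (hmF u hu) (hmF v hv)
  · change residue L (φF (algebraMap P F x)) = _
    rw [hφF]
  · choose β hβ using fun i => Ideal.Quotient.mk_surjective (a i)
    have h1 : ∑ i, β i * algebraMap P F (f i) ∈ J := by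
      rw [← Ideal.Quotient.eq_zero_iff_mem, map_sum]
      refine Eq.trans (Finset.sum_congr rfl fun i _ => ?_) ha
      rw [map_mul, hβ]
      rfl
    rw [hmW, ← hβ]
    exact Ideal.mem_map_of_mem _ (hind β h1 j)

end Groth.Calg1.Popescu
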