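import Groth.Agent.Calg1.Popescu.LocalLemmas
import Groth.Agent.Calg1.Popescu.RegularRelations

/-!
Finitely many elements of a formally smooth regular local algebra in positive characteristic lie,
modulo a power of the maximal ideal, in an étale algebra over the local ring of a polynomial subalgebra
with the same regular system of parameters.
-/

set_option autoImplicit false
set_option linter.style.haveILetI false

universe u

open IsLocalRing MvPolynomial

namespace Groth.Calg1.Popescu

variable {k L : Type u} [Field k] [CommRing L] [IsLocalRing L] [Algebra k L]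

variable (k) in
/-- The prime of the polynomial ring under the maximal ideal. -/
noncomputable abbrev relPrime {n : ℕ} (y : Fin n → L) : Ideal (MvPolynomial (Fin n) k) :=
  (maximalIdeal L).comap (aeval (R := k) y)

/-- The evaluation extended to the local ring of the polynomial ring. -/
noncomputable def locHom {n : ℕ} (y : Fin n → L) : Localization.AtPrime (relPrime k y) →ₐ[k] L :=
  IsLocalization.liftAlgHom (M := (relPrime k y).primeCompl) (f := aeval y)
    fun x => notMem_maximalIdeal.1 x.2

theorem locHom_algebraMap {n : ℕ} (y : Fin n → L) (x : MvPolynomial (Fin n) k) :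
    locHom (k := k) y (algebraMap _ (Localization.AtPrime (relPrime k y)) x) = aeval y x :=
  IsLocalization.lift_eq _ x

theorem locHom_mem_maximalIdeal_iff {n : ℕ} (y : Fin n → L) (x : Localization.AtPrime (relPrime k y)) :
    locHom y x ∈ maximalIdeal L ↔ x ∈ maximalIdeal _ := by
  obtain ⟨a, s, rfl⟩ := IsLocalization.exists_mk'_eq (relPrime k y).primeCompl x
  rw [IsLocalization.AtPrime.mk'_mem_maximal_iff _ (relPrime k y), Ideal.mem_comap,
    ← locHom_algebraMap, ← IsLocalization.mk'_spec (Localization.AtPrime (relPrime k y)) a s, map_mul,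
    locHom_algebraMap]
  exact ⟨fun h => Ideal.mul_mem_right _ _ h,
    fun h => ((maximalIdeal.isMaximal L).isPrime.mem_or_mem h).resolve_right s.2⟩

set_option maxHeartbeats 4000000 in
theorem exists_model (p : ℕ) [Fact p.Prime] [CharP k p] [IsNoetherianRing L]
    (hL : CAlgX.IsAdicFormallySmooth k L (maximalIdeal L)) (Sg : Subalgebra k L)
    (hSg : ∀ x : L, ∃ a ∈ Sg, ∃ s ∈ Sg, IsUnit s ∧ x * s = a) {d : ℕ}
    (hd : (maximalIdeal L).spanFinrank = d) (W : Finset L) (N : ℕ) (hN : 2 ≤ N) :
    ∃ (n : ℕ) (y : Fin n → L), (∀ i, y i ∈ Sg) ∧ ∃ G : Fin d → MvPolynomial (Fin n) k,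
      Ideal.span (Set.range fun i => aeval y (G i)) = maximalIdeal L ∧
      Ideal.span (Set.range fun i => algebraMap _ (Localization.AtPrime (relPrime k y)) (G i)) =
        maximalIdeal (Localization.AtPrime (relPrime k y)) ∧
      ∃ (θ : L) (Q : Polynomial (Localization.AtPrime (relPrime k y))), Q.Monic ∧
        Irreducible (Q.map (residue (Localization.AtPrime (relPrime k y)))) ∧
        (Q.map (residue (Localization.AtPrime (relPrime k y)))).Separable ∧
        Q.eval₂ (locHom y).toRingHom θ ∈ maximalIdeal L ^ N ∧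
        ∀ x ∈ W, ∃ P : Polynomial (Localization.AtPrime (relPrime k y)),
          x - P.eval₂ (locHom y).toRingHom θ ∈ maximalIdeal L ^ N := by
  classical
  haveI : CharP L p := charP_of_injective_algebraMap (algebraMap k L).injective p
  let κ := ResidueField L
  let res : L →ₐ[k] κ := IsScalarTower.toAlgHom k L κ
  haveI : CharP κ p := charP_of_injective_algebraMap (algebraMap k κ).injective p
  have hres0 : ∀ x, res x = 0 ↔ x ∈ maximalIdeal L := fun x => Ideal.Quotient.eq_zero_iff_mem
  -- lifts in `Sg`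
  let SR : Set κ := res '' (Sg : Set L)
  let σ : κ → L := fun x => if hx : x ∈ SR then hx.choose else 0
  have hσ : ∀ x ∈ SR, σ x ∈ Sg ∧ res (σ x) = x := fun x hx => by
    simp only [σ, dif_pos hx]
    exact hx.choose_spec
  have hfrac : ∀ x : L, ∃ a ∈ SR, ∃ s ∈ SR, s ≠ 0 ∧ res x * s = a := fun x => by
    obtain ⟨a, ha, s, hs, hu, he⟩ := hSg x
    exact ⟨res a, ⟨a, ha, rfl⟩, res s, ⟨s, hs, rfl⟩,
      fun h => (notMem_maximalIdeal.2 hu) ((hres0 s).1 h), by rw [← map_mul, he]⟩
  -- a `p`-basis of the residue field inside the residues of `Sg`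
  have hgen : EGA41.IsPGenerating p k (Subtype.val : SR → κ) := by
    rw [Groth.Ega41Sep.isPGenerating_iff_span, eq_top_iff, ← KaehlerDifferential.span_range_derivation,
      Submodule.span_le]
    rintro _ ⟨x, rfl⟩
    obtain ⟨x, rfl⟩ := residue_surjective x
    obtain ⟨a, ha, s, hs, hs0, he⟩ := hfrac x
    have h1 : KaehlerDifferential.D k κ (res x * s) = KaehlerDifferential.D k κ a := by rw [he]
    rw [Derivation.leibniz] at h1
    have h2 : s • KaehlerDifferential.D k κ (res x) =
        KaehlerDifferential.D k κ a - res x • KaehlerDifferential.D k κ s := by rw [← h1]; abel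
    refine (Submodule.smul_mem_iff _ hs0).1 ?_
    show s • KaehlerDifferential.D k κ (res x) ∈ _
    rw [h2]
    exact sub_mem (Submodule.subset_span ⟨⟨a, ha⟩, rfl⟩)
      (Submodule.smul_mem _ _ (Submodule.subset_span ⟨⟨s, hs⟩, rfl⟩))
  obtain ⟨T, -, hTS, hT⟩ := Groth.Ega41Sep.exists_isPBasis_between (p := p) (k := k) SR ∅
    (Set.empty_subset _) hgen (Groth.Ega41Sep.isPIndependent_iff_linearIndependent.2
      (linearIndependent_empty_type))
  obtain ⟨bT, hbT⟩ := Groth.Ega41Sep.isPBasis_iff_basis.1 hT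
  have hTspan : Submodule.span κ (KaehlerDifferential.D k κ '' T) = ⊤ := by
    rw [← bT.span_eq]
    congr 1
    ext z
    simp [hbT]
  -- elements whose differential vanishes at the point
  let Sall : Set L := {x | ∃ (m : ℕ) (Y : Fin m → L) (h : MvPolynomial (Fin m) k),
    aeval Y h ∈ maximalIdeal L ∧ (∀ i, aeval Y (pderiv i h) ∈ maximalIdeal L) ∧ x = aeval Y h}
  let Vmax : Ideal L := Ideal.span Sall ⊔ maximalIdeal L ^ 2
  have hVm : Vmax ≤ maximalIdeal L := sup_le (Ideal.span_le.2 fun x ⟨_, _, _, hx, _, he⟩ => he ▸ hx)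
    (Ideal.pow_le_self two_ne_zero)
  obtain ⟨Hf, hHf, hHspan⟩ := (Submodule.fg_span_iff_fg_span_finset_subset (R := L) Sall).1
    (IsNoetherian.noetherian (Submodule.span L Sall))
  choose mY Y0 h0 hh0m hh0d hh0e using fun j : Hf => hHf j.2
  have hzgen : maximalIdeal L ≤ Ideal.span ((Sg : Set L) ∩ maximalIdeal L) ⊔ Vmax := by
    intro x hx
    obtain ⟨a, ha, s, hs, hu, he⟩ := hSg x
    obtain ⟨u, rfl⟩ := hu
    have : x = (↑u⁻¹ : L) * a := by rw [← he, mul_comm x, ← mul_assoc, Units.inv_mul, one_mul]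
    rw [this]
    exact Ideal.mem_sup_left (Ideal.mul_mem_left _ _ (Ideal.subset_span ⟨ha, he ▸ Ideal.mul_mem_right _ _ hx⟩))
  obtain ⟨zc, z, hz, hzspan, hzind⟩ :=
    exists_minimal_family ((Sg : Set L) ∩ maximalIdeal L) Vmax Set.inter_subset_right hVm hzgen
  let Pi : Set L := Set.range (fun j : Hf => aeval (Y0 j) (h0 j)) ∪ Set.range z
  have hPim : ∀ x ∈ Pi, x ∈ maximalIdeal L := by
    rintro x (⟨j, rfl⟩ | ⟨i, rfl⟩)
    exacts [hh0m j, (hz i).2]
  have hPi : maximalIdeal L = Ideal.span Pi := by
    refine le_antisymm (Submodule.le_of_le_smul_of_le_jacobson_bot (IsNoetherian.noetherian _)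
      (le_of_eq (IsLocalRing.jacobson_eq_maximalIdeal _ bot_ne_top).symm) ?_) (Ideal.span_le.2 hPim)
    refine hzspan.trans (sup_le ?_ ?_)
    · exact (Ideal.span_mono Set.subset_union_right).trans le_sup_left
    · refine sup_le_sup ?_ ?_
      · rw [show Ideal.span Sall = Ideal.span (Hf : Set L) from hHspan]
        exact Ideal.span_mono fun x hx => Or.inl ⟨⟨x, hx⟩, (hh0e ⟨x, hx⟩).symm⟩
      · rw [pow_two, ← smul_eq_mul]
  -- decomposition of the elements modulo `m ^ N`
  let q := p ^ N
  have hqN : N ≤ q := (Nat.lt_pow_self (Fact.out : p.Prime).one_lt).le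
  let Gen : Set L := (Set.range fun v : L => v ^ q) ∪ σ '' T ∪ Pi
  have hdec : ∀ i x, ∃ s ∈ Algebra.adjoin k Gen, x - s ∈ maximalIdeal L ^ i := by
    intro i
    induction i with
    | zero => exact fun x => ⟨0, zero_mem _, by simp⟩
    | succ i ih =>
      intro x
      obtain ⟨s₀, hs₀, hx⟩ : ∃ s ∈ Algebra.adjoin k Gen, x - s ∈ maximalIdeal L := by
        have h1 := mem_adjoin_pow_union (p := p) (k := k) T hTspan N (res x)
        have h2 : Algebra.adjoin k (Set.range (fun v : κ => v ^ p ^ N) ∪ T) ≤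
            (Algebra.adjoin k Gen).map res := by
          rw [Algebra.adjoin_le_iff]
          rintro z (⟨v, rfl⟩ | hz)
          · obtain ⟨v, rfl⟩ := residue_surjective v
            exact ⟨v ^ q, Algebra.subset_adjoin (Or.inl (Or.inl ⟨v, rfl⟩)), map_pow res v q⟩
          · exact ⟨σ z, Algebra.subset_adjoin (Or.inl (Or.inr ⟨z, hz, rfl⟩)), (hσ z (hTS hz)).2⟩
        obtain ⟨s, hs, he⟩ := h2 h1
        exact ⟨s, hs, (hres0 _).1 (by rw [map_sub]; exact sub_eq_zero.2 he.symm)⟩
      suffices h : ∀ y ∈ Ideal.span Pi, ∃ s ∈ Algebra.adjoin k Gen, y - s ∈ maximalIdeal L ^ (i + 1) by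
        obtain ⟨s, hs, hxs⟩ := h (x - s₀) (hPi ▸ hx)
        exact ⟨s₀ + s, add_mem hs₀ hs, by rwa [← sub_sub]⟩
      intro y hy
      obtain ⟨Ts, hTs, hy⟩ := Submodule.mem_span_finite_of_mem_span hy
      obtain ⟨c, rfl⟩ := Submodule.mem_span_finset'.1 hy
      choose sc hsc hsc' using fun l : Ts => ih (c l)
      refine ⟨∑ l : Ts, sc l * l.1, Subalgebra.sum_mem _ fun l _ =>
        mul_mem (hsc l) (Algebra.subset_adjoin (Or.inr (hTs l.2))), ?_⟩
      rw [← Finset.sum_sub_distrib]
      refine Ideal.sum_mem _ fun l _ => ?_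
      rw [smul_eq_mul, ← sub_mul, pow_succ]
      exact Ideal.mul_mem_mul (hsc' l) (hPim _ (hTs l.2))
  let Elts : Finset L := W ∪ Finset.univ.biUnion fun j : Hf => Finset.univ.image (Y0 j)
  choose dec hdecmem hdecN using hdec N
  choose supp hsupp hsuppmem using fun x => exists_finset_mem_adjoin (hdecmem x)
  let Used : Finset L := Elts.biUnion supp
  -- the generators of the residue field
  choose fa hfa fs hfs hfs0 hfe using hfrac
  let vOf : L → L := fun x => if h : ∃ v : L, v ^ q = x then h.choose else 0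
  let Bf : Finset κ := (Used.image res).filter fun b => b ∈ T
  let Gset : Finset κ := Bf ∪ Used.image (fun x => fa (vOf x)) ∪ Used.image (fun x => fs (vOf x))
  have hGS : ∀ x ∈ Gset, x ∈ SR := by
    intro x hx
    simp only [Gset, Bf, Finset.mem_union, Finset.mem_image, Finset.mem_filter] at hx
    rcases hx with (⟨-, hx⟩ | ⟨a, -, rfl⟩) | ⟨a, -, rfl⟩
    exacts [hTS hx, hfa _, hfs _]
  let K' : IntermediateField k κ := IntermediateField.adjoin k (Gset : Set κ)
  let GS : Set K' := Subtype.val ⁻¹' (Gset : Set κ)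
  have hGgen : EGA41.IsPGenerating p k (Subtype.val : GS → K') := by
    rw [Groth.Ega41Sep.isPGenerating_iff_span, eq_top_iff, ← KaehlerDifferential.span_range_derivation,
      Submodule.span_le]
    rintro _ ⟨⟨x, hx⟩, rfl⟩
    induction hx using IntermediateField.adjoin_induction with
    | mem z hz => exact Submodule.subset_span ⟨⟨⟨z, IntermediateField.subset_adjoin k _ hz⟩, hz⟩, rfl⟩
    | algebraMap c =>
      rw [show (⟨algebraMap k κ c, _⟩ : K') = algebraMap k K' c from rfl, Derivation.map_algebraMap]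
      exact zero_mem _
    | add a b ha hb iha ihb =>
      rw [show (⟨a + b, _⟩ : K') = ⟨a, ha⟩ + ⟨b, hb⟩ from rfl, map_add]
      exact add_mem iha ihb
    | inv a ha iha =>
      rw [show (⟨a⁻¹, _⟩ : K') = (⟨a, ha⟩ : K')⁻¹ from rfl, Derivation.leibniz_inv]
      exact Submodule.smul_mem _ _ iha
    | mul a b ha hb iha ihb =>
      rw [show (⟨a * b, _⟩ : K') = ⟨a, ha⟩ * ⟨b, hb⟩ from rfl, Derivation.leibniz]
      exact add_mem (Submodule.smul_mem _ _ ihb) (Submodule.smul_mem _ _ iha)
  haveI : CharP K' p := charP_of_injective_algebraMap (algebraMap k K').injective p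
  let BS : Set K' := Subtype.val ⁻¹' (Bf : Set κ)
  have hBind : EGA41.IsPIndependent p k (Subtype.val : BS → K') := by
    rw [Groth.Ega41Sep.isPIndependent_iff_linearIndependent]
    refine LinearIndependent.of_comp (KaehlerDifferential.map k k K' κ) ?_
    have hinj : Function.Injective (fun b : BS => (⟨(b.1 : κ), (Finset.mem_filter.1 b.2).2⟩ : T)) :=
      fun a b h => Subtype.ext (Subtype.ext (Subtype.ext_iff.1 h :))
    have h1 := (bT.linearIndependent.comp _ hinj).restrict_scalars (R := K')
      (by intro a b h; simpa [Algebra.smul_def] using h)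
    convert h1 using 1
    · funext b
      rw [Function.comp_apply, Function.comp_apply, hbT, KaehlerDifferential.map_D]
      rfl
    · exact Module.ext' _ _ fun a x => (IsScalarTower.algebraMap_smul κ a x).symm
  obtain ⟨T', hBT', hT'G, hT'⟩ := Groth.Ega41Sep.exists_isPBasis_between (p := p) (k := k) GS BS
    (fun x hx => Finset.mem_union_left _ (Finset.mem_union_left _ hx)) hGgen hBind
  have hGSfin : GS.Finite := Gset.finite_toSet.preimage Subtype.val_injective.injOn
  haveI : Fintype T' := (hGSfin.subset hT'G).fintype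
  obtain ⟨bT', hbT'⟩ := Groth.Ega41Sep.isPBasis_iff_basis.1 hT'
  let n0 := Fintype.card T'
  let et := (Fintype.equivFin T').symm
  let yb : Fin n0 → K' := fun i => (et i).1
  let y0 : Fin n0 → L := fun i => σ (yb i : κ)
  have hy0 : ∀ i, y0 i ∈ Sg ∧ res (y0 i) = (yb i : κ) := fun i => hσ _ (hGS _ (hT'G (et i).2))
  have hev0 : ∀ h : MvPolynomial (Fin n0) k, res (aeval y0 h) = ((aeval yb h : K') : κ) := fun h => by
    have h1 : res.comp (aeval y0) = (IntermediateField.val K').comp (aeval yb) :=
      MvPolynomial.algHom_ext fun i => by simpa using (hy0 i).2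
    exact AlgHom.congr_fun h1 h
  have hr0d : ∀ h : MvPolynomial (Fin n0) k, aeval y0 h ∈ maximalIdeal L → ∀ i, aeval y0 (pderiv i h) ∈ maximalIdeal L := by
    intro h hh i
    have h1 : aeval yb h = 0 := Subtype.ext (by rw [← hev0, (hres0 _).2 hh]; rfl)
    have h2 := congrArg (KaehlerDifferential.D k K') h1
    rw [derivation_aeval, map_zero] at h2
    have hli : LinearIndependent K' fun i => KaehlerDifferential.D k K' (yb i) := by
      have := bT'.linearIndependent.comp _ et.injective
      convert this using 1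
      funext i
      exact (hbT' (et i)).symm
    have h3 := Fintype.linearIndependent_iff.1 hli _ h2 i
    refine (hres0 _).1 ?_
    rw [hev0, h3]
    rfl
  -- the relations
  let P0 := MvPolynomial (Fin n0) k
  let r0 := relPrime k y0
  let F0 := Localization.AtPrime r0
  haveI : IsNoetherianRing F0 := IsLocalization.isNoetherianRing r0.primeCompl F0 inferInstance
  obtain ⟨c, fF, hfF, hfspan, hfind⟩ := exists_minimal_family (algebraMap P0 F0 '' (r0 : Set P0))
    (maximalIdeal F0 ^ 2)
    (by rintro _ ⟨x, hx, rfl⟩; exact (IsLocalization.AtPrime.to_map_mem_maximal_iff F0 r0 x).2 hx)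
    (Ideal.pow_le_self two_ne_zero) (by
      refine le_trans (le_of_eq ?_) le_sup_left
      rw [← Ideal.map, Localization.AtPrime.map_eq_maximalIdeal])
  choose f hf hfe' using hfF
  have hfgen : maximalIdeal F0 = Ideal.span (Set.range fF) := by
    refine le_antisymm (Submodule.le_of_le_smul_of_le_jacobson_bot (IsNoetherian.noetherian _)
      (le_of_eq (IsLocalRing.jacobson_eq_maximalIdeal _ bot_ne_top).symm) ?_) (Ideal.span_le.2 ?_)
    · refine hfspan.trans (sup_le_sup le_rfl ?_)
      rw [pow_two, ← smul_eq_mul]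
    · rintro _ ⟨i, rfl⟩
      rw [← hfe' i]
      exact (IsLocalization.AtPrime.to_map_mem_maximal_iff F0 r0 _).2 (hf i)
  -- all variables
  let n := n0 + zc
  let y : Fin n → L := Fin.append y0 z
  let ι0 : P0 →ₐ[k] MvPolynomial (Fin n) k := rename (Fin.castAdd zc)
  have hι0 : ∀ h, aeval y (ι0 h) = aeval y0 h := fun h => by
    rw [aeval_rename, show y ∘ Fin.castAdd zc = y0 from funext fun i => Fin.append_left y0 z i]
  let G0 : Fin (c + zc) → MvPolynomial (Fin n) k :=
    Fin.append (fun i => ι0 (f i)) fun i => X (Fin.natAdd n0 i)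
  have hG0l : ∀ i, aeval y (G0 (Fin.castAdd zc i)) = aeval y0 (f i) := fun i => by
    simp only [G0, Fin.append_left, hι0]
  have hG0r : ∀ i, aeval y (G0 (Fin.natAdd c i)) = z i := fun i => by
    simp only [G0, Fin.append_right, aeval_X, y]
  let r := relPrime k y
  let Rr := Localization.AtPrime r
  let φ : Rr →ₐ[k] L := locHom y
  let GI : Ideal L := Ideal.span (Set.range fun i => aeval y (G0 i))
  have hG0m : ∀ i, aeval y (G0 i) ∈ maximalIdeal L := fun i => by
    refine Fin.addCases (fun i => ?_) (fun i => ?_) i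
    · rw [hG0l]; exact hf i
    · rw [hG0r]; exact (hz i).2
  -- the maximal ideal of the local ring of the polynomial ring
  have hGloc : Ideal.span (Set.range fun i => algebraMap _ Rr (G0 i)) = maximalIdeal Rr := by
    refine le_antisymm (Ideal.span_le.2 ?_) ?_
    · rintro _ ⟨i, rfl⟩
      exact (IsLocalization.AtPrime.to_map_mem_maximal_iff Rr r _).2 (hG0m i)
    · rw [← Localization.AtPrime.map_eq_maximalIdeal, Ideal.map_le_iff_le_comap]
      let GP : Ideal (MvPolynomial (Fin n) k) := Ideal.span (Set.range G0)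
      intro h hh
      let sub : MvPolynomial (Fin n) k →ₐ[k] P0 := aeval (Fin.append X fun _ => 0)
      have hzmem : ∀ i, X (Fin.natAdd n0 i) ∈ GP := fun i =>
        Ideal.subset_span ⟨Fin.natAdd c i, by simp [G0]⟩
      have hdiff : h - ι0 (sub h) ∈ GP := by
        rw [← Ideal.Quotient.eq]
        refine AlgHom.congr_fun (φ₁ := Ideal.Quotient.mkₐ k GP)
          (φ₂ := (Ideal.Quotient.mkₐ k GP).comp (ι0.comp sub)) (MvPolynomial.algHom_ext fun i => ?_) h
        refine Fin.addCases (fun i => ?_) (fun i => ?_) i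
        · simp only [AlgHom.comp_apply, sub, aeval_X, Fin.append_left]
          exact congrArg (Ideal.Quotient.mk GP) (rename_X (Fin.castAdd zc) i).symm
        · simp only [AlgHom.comp_apply, sub, aeval_X, Fin.append_right, map_zero]
          exact Ideal.Quotient.eq_zero_iff_mem.2 (hzmem i)
      have hGPr : GP ≤ r := Ideal.span_le.2 (by rintro _ ⟨i, rfl⟩; exact hG0m i)
      have hsub : sub h ∈ r0 := by
        show aeval y0 (sub h) ∈ maximalIdeal L
        rw [← hι0]
        have := sub_mem (show h ∈ r from hh) (hGPr hdiff)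
        rwa [sub_sub_cancel] at this
      have h1 : algebraMap P0 F0 (sub h) ∈ Ideal.span (Set.range fF) :=
        hfgen ▸ (IsLocalization.AtPrime.to_map_mem_maximal_iff F0 r0 _).2 hsub
      rw [show Set.range fF = algebraMap P0 F0 '' Set.range f by
          rw [← Set.range_comp]; exact congrArg Set.range (funext fun i => (hfe' i).symm),
        ← Ideal.map_span, IsLocalization.algebraMap_mem_map_algebraMap_iff r0.primeCompl] at h1
      obtain ⟨w, hw, hwh⟩ := h1
      rw [Ideal.mem_comap, show Ideal.span (Set.range fun i => algebraMap _ Rr (G0 i)) =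
        GP.map (algebraMap _ Rr) by rw [Ideal.map_span, ← Set.range_comp]; rfl,
        IsLocalization.algebraMap_mem_map_algebraMap_iff r.primeCompl]
      refine ⟨ι0 w, fun h' => hw ((hι0 w) ▸ h' : aeval y0 w ∈ maximalIdeal L), ?_⟩
      rw [show ι0 w * h = ι0 w * (h - ι0 (sub h)) + ι0 (w * sub h) by rw [map_mul]; ring]
      refine add_mem (Ideal.mul_mem_left _ _ hdiff) ?_
      have h2 := Ideal.mem_map_of_mem ι0 hwh
      rw [Ideal.map_span] at h2
      refine Ideal.span_le.2 ?_ h2
      rintro _ ⟨_, ⟨i, rfl⟩, rfl⟩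
      exact Ideal.subset_span ⟨Fin.castAdd zc i, by simp [G0]⟩
  -- the separable extension
  let KF : IntermediateField k K' := IntermediateField.adjoin k (Set.range yb)
  haveI : Algebra.EssFiniteType k K' :=
    IntermediateField.essFiniteType_iff.2 (IntermediateField.fg_adjoin_finset Gset)
  haveI : Algebra.EssFiniteType KF K' := Algebra.EssFiniteType.of_comp k KF K'
  haveI : Subsingleton Ω[K'⁄KF] := by
    refine ⟨fun a b => ?_⟩
    suffices h : ∀ w : Ω[K'⁄KF], w = 0 by rw [h a, h b]
    intro w
    obtain ⟨w, rfl⟩ := KaehlerDifferential.map_surjective k KF K' w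
    suffices h : (KaehlerDifferential.map k KF K' K') = 0 by rw [h, LinearMap.zero_apply]
    refine bT'.ext fun t => ?_
    rw [hbT', KaehlerDifferential.map_D, LinearMap.zero_apply]
    exact Derivation.map_algebraMap (KaehlerDifferential.D KF K')
      ⟨t.1, IntermediateField.subset_adjoin k _ ⟨et.symm t, by simp [yb]⟩⟩
  haveI : Algebra.FormallyUnramified KF K' := ⟨inferInstance⟩
  haveI : Algebra.IsSeparable KF K' := Algebra.FormallyUnramified.isSeparable KF K'
  haveI : Module.Finite KF K' := Algebra.FormallyUnramified.finite_of_free KF K'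
  obtain ⟨α, hα⟩ := Field.exists_primitive_element KF K'
  let M0 : Polynomial KF := minpoly KF α
  have hαint : IsIntegral KF α := Algebra.IsIntegral.isIntegral α
  -- the residue field of the local ring of the polynomial ring
  let ρ : Rr →+* κ := (res.comp φ).toRingHom
  have hρ : ∀ h, ρ (algebraMap _ Rr h) = res (aeval y h) := fun h => congrArg res (locHom_algebraMap y h)
  let ηb : Fin n → K' := Fin.append yb fun _ => 0
  have hevn : ∀ h : MvPolynomial (Fin n) k, res (aeval y h) = ((aeval ηb h : K') : κ) := fun h => by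
    have h1 : res.comp (aeval y) = (IntermediateField.val K').comp (aeval ηb) := by
      refine MvPolynomial.algHom_ext fun i => ?_
      refine Fin.addCases (fun i => ?_) (fun i => ?_) i
      · simpa [y, ηb] using (hy0 i).2
      · simpa [y, ηb] using (hres0 _).2 (hz i).2
    exact AlgHom.congr_fun h1 h
  have hηKF : ∀ h : MvPolynomial (Fin n) k, aeval ηb h ∈ KF := fun h => by
    induction h using MvPolynomial.induction_on with
    | C a => rw [aeval_C]; exact KF.algebraMap_mem a
    | add a b ha hb => rw [map_add]; exact add_mem ha hb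
    | mul_X a i ha =>
      rw [map_mul, aeval_X]
      refine mul_mem ha ?_
      refine Fin.addCases (fun i => ?_) (fun i => ?_) i
      · simpa [ηb] using IntermediateField.subset_adjoin k (Set.range yb) ⟨i, rfl⟩
      · simp [ηb]
  have hρKF : ∀ x : Rr, ∃ a : KF, ρ x = ((a : K') : κ) := by
    intro x
    obtain ⟨a, s, rfl⟩ := IsLocalization.exists_mk'_eq r.primeCompl x
    refine ⟨⟨aeval ηb a / aeval ηb s.1, div_mem (hηKF _) (hηKF _)⟩, ?_⟩
    have h1 : ρ (IsLocalization.mk' Rr a s) * ρ (algebraMap _ Rr s.1) = ρ (algebraMap _ Rr a) := by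
      rw [← map_mul, IsLocalization.mk'_spec]
    rw [hρ, hρ, hevn, hevn] at h1
    have hs0 : ((aeval ηb s.1 : K') : κ) ≠ 0 := by
      rw [← hevn, Ne, hres0]
      exact s.2
    show _ = ((aeval ηb a / aeval ηb s.1 : K') : κ)
    push_cast
    rw [eq_div_iff hs0, h1]
  choose eK heK using hρKF
  have hKFsurj : ∀ a : KF, ∃ x : Rr, ρ x = ((a : K') : κ) := by
    rintro ⟨a, ha⟩
    obtain ⟨u, v, rfl⟩ := IntermediateField.mem_adjoin_range_iff k yb a |>.1 ha
    by_cases hv : aeval yb v = 0
    · exact ⟨0, by simp [hv]⟩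
    have hvr : ι0 v ∈ r.primeCompl := fun h' => hv (Subtype.ext (by
      rw [← hev0, (hres0 _).2 ((hι0 v) ▸ h' : aeval y0 v ∈ maximalIdeal L)]; rfl))
    refine ⟨IsLocalization.mk' Rr (ι0 u) (⟨ι0 v, hvr⟩ : r.primeCompl), ?_⟩
    have h1 : ρ (IsLocalization.mk' Rr (ι0 u) (⟨ι0 v, hvr⟩ : r.primeCompl)) * ρ (algebraMap _ Rr (ι0 v)) =
        ρ (algebraMap _ Rr (ι0 u)) := by
      rw [← map_mul]
      exact congrArg ρ (IsLocalization.mk'_spec Rr (ι0 u) (⟨ι0 v, hvr⟩ : r.primeCompl))
    rw [hρ, hρ, hι0, hι0, hev0, hev0] at h1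
    show _ = ((aeval yb u / aeval yb v : K') : κ)
    push_cast
    rw [eq_div_iff (fun h' => hv (Subtype.ext h')), h1]
  have hρker : ∀ x, ρ x = 0 ↔ x ∈ maximalIdeal Rr := fun x =>
    (hres0 _).trans (locHom_mem_maximalIdeal_iff y x)
  let e0 : Rr →+* KF :=
    { toFun := eK
      map_one' := Subtype.ext (Subtype.ext (by rw [← heK, map_one]; rfl))
      map_mul' := fun a b => Subtype.ext (Subtype.ext (by
        show ((eK (a * b) : K') : κ) = ((eK a : K') : κ) * ((eK b : K') : κ)
        rw [← heK, ← heK, ← heK, map_mul]))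
      map_zero' := Subtype.ext (Subtype.ext (by rw [← heK, map_zero]; rfl))
      map_add' := fun a b => Subtype.ext (Subtype.ext (by
        show ((eK (a + b) : K') : κ) = ((eK a : K') : κ) + ((eK b : K') : κ)
        rw [← heK, ← heK, ← heK, map_add])) }
  have he0s : Function.Surjective e0 := fun a => by
    obtain ⟨x, hx⟩ := hKFsurj a
    exact ⟨x, Subtype.ext (Subtype.ext ((heK x).symm.trans hx))⟩
  have he0k : ∀ x, e0 x = 0 ↔ x ∈ maximalIdeal Rr := fun x => by
    rw [← hρker, heK]
    exact ⟨fun h => (congrArg (fun a : KF => ((a : K') : κ)) h :), fun h => Subtype.ext (Subtype.ext h)⟩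
  let eR : ResidueField Rr →+* KF :=
    Ideal.Quotient.lift (maximalIdeal Rr) e0 fun x hx => (he0k x).2 hx
  have heRs : Function.Bijective eR := ⟨RingHom.injective _, fun a => by
    obtain ⟨x, hx⟩ := he0s a
    exact ⟨residue Rr x, hx⟩⟩
  obtain ⟨Q, hQmap, hQdeg, hQm⟩ : ∃ Q : Polynomial Rr, Q.map e0 = M0 ∧ Q.degree = M0.degree ∧ Q.Monic :=
    Polynomial.lifts_and_degree_eq_and_monic ((Polynomial.lifts_iff_coeff_lifts _).2
      fun i => he0s (M0.coeff i)) (minpoly.monic hαint)
  have hQres : (Q.map (residue Rr)).map eR = M0 := by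
    rw [Polynomial.map_map, ← hQmap]
    rfl
  have hQirr : Irreducible (Q.map (residue Rr)) := by
    rw [← MulEquiv.irreducible_iff (Polynomial.mapEquiv (RingEquiv.ofBijective eR heRs))]
    show Irreducible ((Q.map (residue Rr)).map eR)
    rw [hQres]
    exact minpoly.irreducible hαint
  have hQsep : (Q.map (residue Rr)).Separable := by
    rw [← Polynomial.separable_map eR, hQres]
    exact Algebra.IsSeparable.isSeparable KF α
  -- the approximate root
  let toκ : KF →+* κ := (algebraMap K' κ).comp (algebraMap KF K')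
  have hρe : toκ.comp e0 = ρ := RingHom.ext fun x => (heK x).symm
  obtain ⟨θ₀, hθ₀⟩ := residue_surjective ((α : K') : κ)
  have heval : ∀ (P : Polynomial Rr) (t : L), res t = ((α : K') : κ) →
      res (P.eval₂ φ.toRingHom t) = ((Polynomial.aeval α (P.map e0) : K') : κ) := by
    intro P t ht
    show res.toRingHom (P.eval₂ φ.toRingHom t) = algebraMap K' κ (Polynomial.aeval α (P.map e0))
    rw [Polynomial.hom_eval₂, Polynomial.aeval_def, Polynomial.eval₂_map, Polynomial.hom_eval₂,
      ← RingHom.comp_assoc, show (algebraMap K' κ).comp (algebraMap KF K') = toκ from rfl, hρe]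
    show P.eval₂ ρ (res t) = _
    rw [ht]
    rfl
  let QL := Q.map φ.toRingHom
  obtain ⟨θ, hθ, hQθ⟩ := exists_newton QL θ₀ ((hres0 _).1 (by
      rw [Polynomial.eval_map, heval Q θ₀ hθ₀, hQmap, minpoly.aeval]; rfl))
    (notMem_maximalIdeal.1 fun h => (Algebra.IsSeparable.isSeparable KF α).aeval_derivative_ne_zero
      (minpoly.aeval KF α) (Subtype.ext (by
        show ((Polynomial.aeval α (Polynomial.derivative (minpoly KF α)) : K') : κ) = 0
        rw [show Polynomial.derivative (minpoly KF α) = (Polynomial.derivative Q).map e0 by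
            rw [← Polynomial.derivative_map, hQmap],
          ← heval _ θ₀ hθ₀, ← Polynomial.eval_map, ← Polynomial.derivative_map]
        exact (hres0 _).2 h))) N
  rw [Polynomial.eval_map] at hQθ
  have hresθ : res θ = ((α : K') : κ) := by
    rw [← sub_add_cancel θ θ₀, map_add, (hres0 _).2 hθ, zero_add]
    exact hθ₀
  -- the elements approximated by the model
  let ev : Polynomial Rr →ₐ[k] L :=
    { Polynomial.eval₂RingHom φ.toRingHom θ with
      commutes' := fun a => by
        show (algebraMap k (Polynomial Rr) a).eval₂ φ.toRingHom θ = _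
        rw [IsScalarTower.algebraMap_apply k Rr (Polynomial Rr), Polynomial.algebraMap_eq, Polynomial.eval₂_C]
        exact φ.commutes a }
  let S : ℕ → Subalgebra k L := fun i =>
    ((Ideal.Quotient.mkₐ k (maximalIdeal L ^ i)).comp ev).range.comap (Ideal.Quotient.mkₐ k (maximalIdeal L ^ i))
  have hS : ∀ i x, x ∈ S i ↔ ∃ P, x - ev P ∈ maximalIdeal L ^ i := fun i x =>
    ⟨fun ⟨P, hP⟩ => ⟨P, Ideal.Quotient.eq.1 hP.symm⟩, fun ⟨P, hP⟩ => ⟨P, (Ideal.Quotient.eq.2 hP).symm⟩⟩
  have hSy : ∀ i l, y l ∈ S i := fun i l => (hS i _).2 ⟨Polynomial.C (algebraMap _ Rr (X (R := k) l)), by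
    have : ev (Polynomial.C (algebraMap _ Rr (X (R := k) l))) = y l := by
      show (Polynomial.C _).eval₂ φ.toRingHom θ = _
      rw [Polynomial.eval₂_C]
      exact (locHom_algebraMap y _).trans (aeval_X _ _)
    rw [this, sub_self]; exact zero_mem _⟩
  have hKres : ∀ x : K', ∃ P : Polynomial Rr, res (ev P) = ((x : K') : κ) := by
    intro x
    have hx : x ∈ Algebra.adjoin KF ({α} : Set K') := by
      rw [← IntermediateField.adjoin_simple_toSubalgebra_of_isAlgebraic hαint.isAlgebraic, hα]
      trivial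
    rw [Algebra.adjoin_singleton_eq_range_aeval] at hx
    obtain ⟨P, rfl⟩ := hx
    obtain ⟨P', rfl⟩ := Polynomial.map_surjective e0 he0s P
    exact ⟨P', heval P' θ hresθ⟩
  have hpow : ∀ i ≤ N, ∀ v : L, (res v : κ) ∈ K' → v ^ q ∈ S i := by
    intro i hi v hv
    obtain ⟨P, hP⟩ := hKres ⟨res v, hv⟩
    refine (hS i _).2 ⟨P ^ q, ?_⟩
    rw [map_pow, ← sub_pow_char_pow]
    refine Ideal.pow_le_pow_right (hi.trans hqN) (Ideal.pow_mem_pow ((hres0 _).1 ?_) _)
    rw [map_sub, hP, sub_self]
  have hUsed : ∀ i ≤ N, (∀ j : Hf, aeval (Y0 j) (h0 j) ∈ S i) → ∀ e ∈ Elts, e ∈ S i := by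
    intro i hi hπ e he
    have hsub : (supp e : Set L) ⊆ S i := by
      intro x hx
      have hxU : x ∈ Used := Finset.mem_biUnion.2 ⟨e, he, hx⟩
      rcases hsupp e hx with (⟨v, rfl⟩ | ⟨b, hb, rfl⟩) | (⟨j, rfl⟩ | ⟨l, rfl⟩)
      · have hex : ∃ w : L, w ^ q = v ^ q := ⟨v, rfl⟩
        have hvo : (vOf (v ^ q)) ^ q = v ^ q := by
          simp only [vOf, dif_pos hex]
          exact hex.choose_spec
        show v ^ q ∈ S i
        rw [← hvo]
        refine hpow i hi _ ?_
        have hmem : ∀ g ∈ Gset, g ∈ K' := fun g hg => IntermediateField.subset_adjoin k _ hg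
        rw [← mul_div_cancel_right₀ (res (vOf (v ^ q))) (hfs0 (vOf (v ^ q))), hfe]
        exact div_mem (hmem _ (Finset.mem_union_left _ (Finset.mem_union_right _
            (Finset.mem_image_of_mem _ hxU))))
          (hmem _ (Finset.mem_union_right _ (Finset.mem_image_of_mem _ hxU)))
      · have hbB : b ∈ Bf := Finset.mem_filter.2
          ⟨Finset.mem_image.2 ⟨σ b, hxU, (hσ b (hTS hb)).2⟩, hb⟩
        let b' : K' := ⟨b, IntermediateField.subset_adjoin k _
          (Finset.mem_union_left _ (Finset.mem_union_left _ hbB))⟩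
        have hb' : b' ∈ T' := hBT' hbB
        have h1 : y (Fin.castAdd zc (et.symm ⟨b', hb'⟩)) = σ b := by
          simp [y, y0, yb, b']
        show σ b ∈ S i
        rw [← h1]
        exact hSy _ _
      · exact hπ j
      · show z l ∈ S i
        rw [show z l = y (Fin.natAdd n0 l) by simp [y]]
        exact hSy _ _
    have hdS : dec e ∈ S i := Algebra.adjoin_le hsub (hsuppmem e)
    obtain ⟨P, hP⟩ := (hS i _).1 hdS
    exact (hS i _).2 ⟨P, by
      rw [← sub_add_sub_cancel e (dec e) (ev P)]
      exact add_mem (Ideal.pow_le_pow_right hi (hdecN e)) hP⟩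
  have hboot : ∀ i ≤ N, ∀ j : Hf, aeval (Y0 j) (h0 j) ∈ S i := by
    intro i
    induction i with
    | zero => exact fun _ j => (hS 0 _).2 ⟨0, by simp⟩
    | succ i ih =>
      intro hi j
      rcases Nat.eq_zero_or_pos i with rfl | hi0
      · exact (hS _ _).2 ⟨0, by rw [map_zero, sub_zero, pow_one]; exact hh0m j⟩
      have hY : ∀ l, ∃ P, Y0 j l - ev P ∈ maximalIdeal L ^ i := fun l => (hS i _).1
        (hUsed i (by omega) (ih (by omega)) _ (Finset.mem_union_right _ (Finset.mem_biUnion.2
          ⟨j, Finset.mem_univ _, Finset.mem_image_of_mem _ (Finset.mem_univ l)⟩)))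
      choose PY hPY using hY
      refine (hS _ _).2 ⟨aeval PY (h0 j), ?_⟩
      let mk := Ideal.Quotient.mkₐ k (maximalIdeal L ^ (i + 1))
      let a : Fin (mY j) → L ⧸ maximalIdeal L ^ (i + 1) := fun l => mk (Y0 j l)
      let v : Fin (mY j) → L ⧸ maximalIdeal L ^ (i + 1) := fun l => mk (ev (PY l) - Y0 j l)
      have hvv : ∀ l l', v l * v l' = 0 := fun l l' => by
        rw [← map_mul]
        refine Ideal.Quotient.eq_zero_iff_mem.2 (Ideal.pow_le_pow_right (show i + 1 ≤ i + i by omega) ?_)
        rw [pow_add]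
        exact Ideal.mul_mem_mul (by rw [← neg_sub]; exact neg_mem (hPY l))
          (by rw [← neg_sub]; exact neg_mem (hPY l'))
      have h1 : mk (ev (aeval PY (h0 j))) = aeval (fun l => a l + v l) (h0 j) := by
        have := MvPolynomial.comp_aeval_apply PY (mk.comp ev) (h0 j)
        rw [AlgHom.comp_apply] at this
        rw [this]
        congr 1
        ext l
        simp [a, v]
      rw [aeval_add_of_mul_eq_zero a v hvv, Finset.sum_eq_zero (fun l _ => ?_), add_zero,
        show a = fun l => mk (Y0 j l) from rfl, ← MvPolynomial.comp_aeval_apply (Y0 j) mk] at h1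
      · exact Ideal.Quotient.eq.1 h1.symm
      · rw [show a = fun l => mk (Y0 j l) from rfl, ← MvPolynomial.comp_aeval_apply (Y0 j) mk, ← map_mul]
        refine Ideal.Quotient.eq_zero_iff_mem.2 ?_
        rw [pow_succ]
        exact Ideal.mul_mem_mul (by rw [← neg_sub]; exact neg_mem (hPY l)) (hh0d j l)
  -- the parameters generate
  have hGIm : maximalIdeal L = GI := by
    refine le_antisymm (Submodule.le_of_le_smul_of_le_jacobson_bot (IsNoetherian.noetherian _)
      (le_of_eq (IsLocalRing.jacobson_eq_maximalIdeal _ bot_ne_top).symm) ?_) (Ideal.span_le.2 ?_)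
    · rw [smul_eq_mul, ← pow_two]
      conv_lhs => rw [hPi]
      rw [Ideal.span_le]
      rintro x (⟨j, rfl⟩ | ⟨l, rfl⟩)
      · obtain ⟨P, hP⟩ := (hS N _).1 (hboot N le_rfl j)
        have hmN : maximalIdeal L ^ N ≤ GI ⊔ maximalIdeal L ^ 2 :=
          (Ideal.pow_le_pow_right hN).trans le_sup_right
        show aeval (Y0 j) (h0 j) ∈ GI ⊔ maximalIdeal L ^ 2
        rw [← sub_add_cancel (aeval (Y0 j) (h0 j)) (ev P)]
        refine add_mem (hmN hP) ?_
        rw [← Polynomial.modByMonic_add_div P Q, map_add, map_mul]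
        refine add_mem ?_ (Ideal.mul_mem_right _ _ (hmN hQθ))
        have h0' : res (ev (P %ₘ Q)) = 0 := by
          have h1 : res (ev P) = 0 := (hres0 _).2 (by
            rw [← sub_sub_cancel (aeval (Y0 j) (h0 j)) (ev P)]
            exact sub_mem (hh0m j) (Ideal.pow_le_self (by omega) hP))
          rw [← Polynomial.modByMonic_add_div P Q, map_add, map_mul, map_add, map_mul,
            show res (ev Q) = 0 from (hres0 _).2 (Ideal.pow_le_self (by omega) hQθ), zero_mul, add_zero] at h1
          exact h1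
        have h2 : Polynomial.aeval α ((P %ₘ Q).map e0) = 0 :=
          Subtype.ext ((heval _ θ hresθ).symm.trans h0')
        have h3 : (P %ₘ Q).map e0 = 0 := by
          by_contra hne
          have h4 := minpoly.degree_le_of_ne_zero KF α hne h2
          rw [Polynomial.map_modByMonic _ hQm, hQmap] at h4
          exact absurd h4 (not_le.2 (Polynomial.degree_modByMonic_lt _ (minpoly.monic hαint)))
        refine Ideal.mem_sup_left ?_
        show (P %ₘ Q).eval₂ φ.toRingHom θ ∈ GI
        rw [Polynomial.eval₂_eq_sum_range]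
        refine Ideal.sum_mem _ fun t _ => Ideal.mul_mem_right _ _ ?_
        have h5 : (P %ₘ Q).coeff t ∈ Ideal.span (Set.range fun i => algebraMap _ Rr (G0 i)) := by
          rw [hGloc, ← he0k, ← Polynomial.coeff_map, h3, Polynomial.coeff_zero]
        have h6 := Ideal.mem_map_of_mem φ.toRingHom h5
        rw [Ideal.map_span, ← Set.range_comp] at h6
        convert h6 using 3
        funext i
        exact (locHom_algebraMap y _).symm
      · exact Ideal.mem_sup_left (Ideal.subset_span ⟨Fin.natAdd c l, hG0r l⟩)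
    · rintro _ ⟨i, rfl⟩
      exact hG0m i
  have hcd : c + zc = d := by
    rw [← hd]
    refine (card_eq_spanFinrank _ hGIm.symm fun a ha => ?_).symm
    rw [Fin.sum_univ_add] at ha
    simp only [hG0l, hG0r] at ha
    have hfV : ∑ i, a (Fin.castAdd zc i) * aeval y0 (f i) ∈ Vmax :=
      Ideal.mem_sup_left (Ideal.sum_mem _ fun i _ => Ideal.mul_mem_left _ _ (Ideal.subset_span
        ⟨n0, y0, f i, hf i, hr0d _ (hf i), rfl⟩))
    have hb : ∀ i, a (Fin.natAdd c i) ∈ maximalIdeal L := hzind _ (by
      have := sub_mem (show _ ∈ Vmax from Ideal.mem_sup_right ha) hfV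
      rwa [add_sub_cancel_left] at this)
    have hzsq : ∑ i, a (Fin.natAdd c i) * z i ∈ maximalIdeal L ^ 2 := Ideal.sum_mem _ fun i _ => by
      rw [pow_two]; exact Ideal.mul_mem_mul (hb i) (hz i).2
    have hfa' : ∀ i, a (Fin.castAdd zc i) ∈ maximalIdeal L := mem_maximalIdeal_of_sum_mem_sq hL y0 f hf
      (fun i => hr0d _ (hf i)) (fun a' ha' => hfind a' (by simp only [← hfe']; exact ha')) _ (by
        have := sub_mem ha hzsq
        rwa [add_sub_cancel_right] at this)
    exact fun i => Fin.addCases hfa' hb i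
  subst hcd
  refine ⟨n, y, fun i => Fin.addCases (fun i => by simpa [y] using (hy0 i).1)
    (fun i => by simpa [y] using (hz i).1) i, G0, hGIm.symm, hGloc, θ, Q, hQm, hQirr, hQsep, hQθ,
    fun x hx => ?_⟩
  exact (hS N x).1 (hUsed N le_rfl (hboot N le_rfl) x (Finset.mem_union_left _ hx))

end Groth.Calg1.Popescu
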