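import Groth.Agent.NeronArea.Parameters
import Mathlib.RingTheory.Polynomial.Basic
import Mathlib.RingTheory.Noetherian.Basic

/-!
Choice of exponents of an auxiliary element making annihilators stabilise.
-/

set_option autoImplicit false
set_option linter.style.haveILetI false

universe u

namespace Groth.Calg1.Popescu

/-- The ideal of the first powers. -/
abbrev headIdeal {S : Type u} [CommRing S] {d : ℕ} (u : Fin d → S) (e : ℕ) (i : Fin d) : Ideal S :=
  Ideal.span (Set.range fun j : {j : Fin d // (j : ℕ) < (i : ℕ)} => u j ^ e)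

theorem headIdeal_map {S S' : Type u} [CommRing S] [CommRing S'] (f : S →+* S') {d : ℕ} (u : Fin d → S)
    (e : ℕ) (i : Fin d) : (headIdeal u e i).map f = headIdeal (fun j => f (u j)) e i := by
  rw [Ideal.map_span, ← Set.range_comp]
  exact congrArg (fun h => Ideal.span (Set.range h)) (funext fun j => map_pow f _ _)

/-- Elements outside a prime killing the annihilators modulo powers of parameters. -/
theorem exists_killer {S : Type u} [CommRing S] [IsNoetherianRing S] (q : Ideal S) [q.IsPrime] {d : ℕ}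
    [IsRegularLocalRing (Localization.AtPrime q)] (u : Fin d → S)
    (hd : ringKrullDim (Localization.AtPrime q) = d)
    (hu : Ideal.span (Set.range fun i => algebraMap S (Localization.AtPrime q) (u i)) =
      IsLocalRing.maximalIdeal (Localization.AtPrime q)) {e : ℕ} (he : 0 < e) (M : ℕ) :
    ∃ s : S, s ∉ q ∧ ∀ i, ∀ x : S, u i ^ M * x ∈ headIdeal u e i → s * x ∈ headIdeal u e i := by
  classical
  let L := Localization.AtPrime q
  let g : S →+* L := algebraMap S L
  have hone : ∀ i, ∀ x : S, u i ^ M * x ∈ headIdeal u e i → ∃ s : S, s ∉ q ∧ s * x ∈ headIdeal u e i := by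
    intro i x hx
    have h1 : g (u i) ^ M * g x ∈ (headIdeal u e i).map g := by
      rw [← map_pow, ← map_mul]; exact Ideal.mem_map_of_mem g hx
    rw [headIdeal_map] at h1
    have h2 : g x ∈ headIdeal (fun j => g (u j)) e i := by
      clear hx
      induction M with
      | zero => simpa using h1
      | succ M ih =>
        refine ih ?_
        rw [pow_succ', mul_assoc] at h1
        exact Groth.NeronArea.Parameters.pow_param_regular _ hd hu he i _ h1
    rw [← headIdeal_map] at h2
    exact (IsLocalization.algebraMap_mem_map_algebraMap_iff q.primeCompl L _ x).1 h2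
  let C : Fin d → Ideal S := fun i => Submodule.comap (LinearMap.mulLeft S (u i ^ M)) (headIdeal u e i)
  have hC : ∀ i x, x ∈ C i ↔ u i ^ M * x ∈ headIdeal u e i := fun i x => Iff.rfl
  choose T hT using fun i => (IsNoetherian.noetherian (C i) : (C i).FG)
  choose s hs hsx using fun i (x : T i) => hone i x.1 ((hC i _).1 (hT i ▸ Submodule.subset_span x.2))
  refine ⟨∏ i, ∏ x : T i, s i x, fun h => ?_, fun i x hx => ?_⟩
  · obtain ⟨i, -, hi⟩ := (Ideal.IsPrime.prod_mem_iff (p := q)).1 h
    obtain ⟨x, -, hx⟩ := (Ideal.IsPrime.prod_mem_iff (p := q)).1 hi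
    exact hs i x hx
  · have h1 : x ∈ Submodule.span S (T i : Set S) := by rw [hT i]; exact hx
    have h2 : Submodule.span S (T i : Set S) ≤
        Submodule.comap (LinearMap.mulLeft S (∏ i, ∏ x : T i, s i x)) (headIdeal u e i) := by
      refine Submodule.span_le.2 fun z hz => ?_
      show (∏ i, ∏ x : T i, s i x) * z ∈ headIdeal u e i
      obtain ⟨c, hc⟩ : s i ⟨z, hz⟩ ∣ ∏ i, ∏ x : T i, s i x :=
        (Finset.dvd_prod_of_mem _ (Finset.mem_univ _)).trans (Finset.dvd_prod_of_mem _ (Finset.mem_univ i))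
      rw [hc, mul_comm _ c, mul_assoc]
      exact Ideal.mul_mem_left _ _ (hsx i ⟨z, hz⟩)
    exact h2 h1

/-- Killers extend to a polynomial ring. -/
theorem killer_polynomial {S : Type u} [CommRing S] {d : ℕ} (u : Fin d → S) (e M : ℕ) (s : S)
    (h : ∀ i, ∀ x : S, u i ^ M * x ∈ headIdeal u e i → s * x ∈ headIdeal u e i) (i : Fin d) (x : Polynomial S)
    (hx : Polynomial.C (u i) ^ M * x ∈ headIdeal (fun j => Polynomial.C (u j)) e i) :
    Polynomial.C s * x ∈ headIdeal (fun j => Polynomial.C (u j)) e i := by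
  rw [← headIdeal_map, Ideal.mem_map_C_iff] at hx ⊢
  intro k
  rw [Polynomial.coeff_C_mul]
  refine h i _ ?_
  have := hx k
  rwa [← map_pow, Polynomial.coeff_C_mul] at this

/-- Multiples of killers are killers. -/
theorem killer_of_dvd {S : Type u} [CommRing S] {d : ℕ} {u : Fin d → S} {e M : ℕ} {s s' : S} (hs : s ∣ s')
    (h : ∀ i, ∀ x : S, u i ^ M * x ∈ headIdeal u e i → s * x ∈ headIdeal u e i) (i : Fin d) (x : S)
    (hx : u i ^ M * x ∈ headIdeal u e i) : s' * x ∈ headIdeal u e i := by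
  obtain ⟨c, rfl⟩ := hs
  rw [mul_comm s c, mul_assoc]
  exact Ideal.mul_mem_left _ _ (h i x hx)

/-- Annihilators modulo powers of `T ^ (L j) * u j` stabilise for large exponents. -/
theorem exists_bound {S : Type u} [CommRing S] [IsNoetherianRing S] {d : ℕ} (u : Fin d → S) (T : S) (M : ℕ)
    (hM : 0 < M) (hT : ∀ i, ∀ x : S, u i ^ (2 * M) * x ∈ headIdeal u (8 * M) i → T * x ∈ headIdeal u (8 * M) i) :
    ∃ bd : (Fin d → ℕ) → Fin d → ℕ,
      (∀ (i : Fin d) (L L' : Fin d → ℕ), (∀ j : Fin d, (j : ℕ) < (i : ℕ) → L j = L' j) → bd L i = bd L' i) ∧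
      ∀ (L : Fin d → ℕ) (i : Fin d), bd L i ≤ L i → ∀ x : S ⧸ headIdeal (fun j => (T ^ L j * u j) ^ M) 8 i,
        Ideal.Quotient.mk _ ((T ^ L i * u i) ^ M) ^ 2 * x = 0 →
          Ideal.Quotient.mk _ ((T ^ L i * u i) ^ M) * x = 0 := by
  classical
  have hstab : ∀ J : Ideal S, ∃ b : ℕ, ∀ x m, T ^ m * x ∈ J → T ^ b * x ∈ J := by
    intro J
    let c : ℕ →o Ideal S := ⟨fun m => Submodule.comap (LinearMap.mulLeft S (T ^ m)) J, fun m m' hm x hx => by
      obtain ⟨t, rfl⟩ := Nat.exists_eq_add_of_le hm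
      show T ^ (m + t) * x ∈ J
      rw [add_comm, pow_add, mul_assoc]
      exact J.mul_mem_left _ hx⟩
    obtain ⟨b, hb⟩ := monotone_stabilizes_iff_noetherian.2 (inferInstance : IsNoetherian S S) c
    refine ⟨b, fun x m hx => ?_⟩
    rcases le_total m b with h | h
    · exact c.monotone h hx
    · exact (hb m h).ge hx
  choose b hb using hstab
  refine ⟨fun L i => b (headIdeal (fun j => (T ^ L j * u j) ^ M) 8 i), fun i L L' h => ?_, fun L i hL x => ?_⟩
  · refine congrArg b (congrArg (fun f => Ideal.span (Set.range f)) (funext fun j => ?_))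
    show ((T ^ L j.1 * u j.1) ^ M) ^ 8 = ((T ^ L' j.1 * u j.1) ^ M) ^ 8
    rw [h j.1 j.2]
  · obtain ⟨x, rfl⟩ := Ideal.Quotient.mk_surjective x
    rw [← map_pow, ← map_mul, ← map_mul, Ideal.Quotient.eq_zero_iff_mem, Ideal.Quotient.eq_zero_iff_mem]
    intro hx
    set J := headIdeal (fun j => (T ^ L j * u j) ^ M) 8 i
    have hJH : J ≤ headIdeal u (8 * M) i := by
      refine Ideal.span_le.2 ?_
      rintro _ ⟨j, rfl⟩
      show ((T ^ L j * u j) ^ M) ^ 8 ∈ _
      rw [← pow_mul, mul_comm M 8, mul_pow]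
      exact Ideal.mul_mem_left _ _ (Ideal.subset_span ⟨j, rfl⟩)
    let E := ∑ j, L j * (8 * M)
    have hHJ : ∀ z ∈ headIdeal u (8 * M) i, T ^ E * z ∈ J := by
      have : headIdeal u (8 * M) i ≤ Submodule.comap (LinearMap.mulLeft S (T ^ E)) J := by
        refine Ideal.span_le.2 ?_
        rintro _ ⟨j, rfl⟩
        show T ^ E * u j ^ (8 * M) ∈ J
        obtain ⟨t, ht⟩ := Nat.exists_eq_add_of_le
          (Finset.single_le_sum (f := fun j => L j * (8 * M)) (fun _ _ => Nat.zero_le _) (Finset.mem_univ j.1))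
        rw [show E = L j.1 * (8 * M) + t from ht, pow_add, mul_comm _ (T ^ t), mul_assoc, pow_mul, ← mul_pow,
          mul_comm 8 M, pow_mul]
        exact Ideal.mul_mem_left _ _ (Ideal.subset_span ⟨j, rfl⟩)
      exact fun z hz => this hz
    have h1 : T * (T ^ (2 * M * L i) * x) ∈ headIdeal u (8 * M) i := by
      refine hT i _ ?_
      have := hJH hx
      rwa [← pow_mul, mul_comm M 2, mul_pow, ← pow_mul, mul_comm (L i) (2 * M), mul_assoc,
        mul_left_comm] at this
    have h2 : T ^ (E + 1 + 2 * M * L i) * x ∈ J := by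
      have := hHJ _ h1
      rwa [show T ^ E * (T * (T ^ (2 * M * L i) * x)) = T ^ (E + 1 + 2 * M * L i) * x by ring] at this
    have h3 := hb J x _ h2
    obtain ⟨t, ht⟩ := Nat.exists_eq_add_of_le (hL.trans (Nat.le_mul_of_pos_right _ hM))
    rw [mul_pow, ← pow_mul, ht, mul_comm _ (u i ^ M), mul_assoc, add_comm, pow_add, mul_assoc]
    exact Ideal.mul_mem_left _ _ (Ideal.mul_mem_left _ _ h3)

/-- Exponents dominating a recursively dependent bound. -/
theorem exists_exponents {d : ℕ} (F : (Fin d → ℕ) → Fin d → ℕ)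
    (hF : ∀ (i : Fin d) (L L' : Fin d → ℕ), (∀ j : Fin d, (j : ℕ) < (i : ℕ) → L j = L' j) → F L i = F L' i) :
    ∃ L, ∀ i, F L i ≤ L i := by
  suffices h : ∀ m, ∃ L, ∀ i : Fin d, (i : ℕ) < m → F L i ≤ L i by
    obtain ⟨L, hL⟩ := h d
    exact ⟨L, fun i => hL i i.2⟩
  intro m
  induction m with
  | zero => exact ⟨fun _ => 0, fun i hi => absurd hi (Nat.not_lt_zero _)⟩
  | succ m ih =>
    obtain ⟨L, hL⟩ := ih
    refine ⟨fun j => if (j : ℕ) = m then F L j else L j, fun i hi => ?_⟩
    rw [hF i _ L fun j hj => if_neg (by omega)]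
    rcases Nat.lt_succ_iff_lt_or_eq.1 hi with h | h
    · simp only [Nat.ne_of_lt h, if_false]; exact hL i h
    · simp only [h, if_true, le_rfl]

end Groth.Calg1.Popescu
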