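import Groth.Agent.Calg1.Popescu.ResolvableInseparable
import Groth.Agent.NeronArea.ResolvableRegular
import Groth.Agent.Ega41Sep.Separable
import Mathlib.RingTheory.Smooth.Locus

/-!
Geometrically regular algebras over fields are ind-smooth.
-/

set_option autoImplicit false
set_option linter.style.haveILetI false

universe u

open Smoothing Groth.NeronArea MvPolynomial

namespace Groth.Calg1.Popescu

/-- An algebra with the relation `∑ xᵢ bᵢ = 1` adjoined is formally smooth. -/
theorem formallySmooth_unimodular {B : Type u} [CommRing B] {r : ℕ} (b : Fin r → B) :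
    Algebra.FormallySmooth B
      (MvPolynomial (Fin r) B ⧸ Ideal.span {∑ i, C (b i) * X i - (1 : MvPolynomial (Fin r) B)}) := by
  refine Algebra.FormallySmooth.of_comp_surjective fun W _ _ I hI F => ?_
  choose ξ hξ using fun i => Ideal.Quotient.mk_surjective
    (F (Ideal.Quotient.mk (Ideal.span {∑ i, C (b i) * X i - (1 : MvPolynomial (Fin r) B)}) (X i)))
  have hev : (Ideal.Quotient.mkₐ B I).comp (aeval ξ) = F.comp (Ideal.Quotient.mkₐ B _) :=
    MvPolynomial.algHom_ext fun i => by simpa using hξ i
  let ε := aeval ξ (∑ i, C (b i) * X i - (1 : MvPolynomial (Fin r) B))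
  have hε : ε ∈ I := by
    rw [← Ideal.Quotient.eq_zero_iff_mem]
    refine (AlgHom.congr_fun hev _).trans ?_
    show F (Ideal.Quotient.mk _ _) = 0
    rw [Ideal.Quotient.eq_zero_iff_mem.2 (Ideal.mem_span_singleton_self _), map_zero]
  have hε2 : ε * ε = 0 := by
    have h := Ideal.mul_mem_mul hε hε
    rwa [← pow_two, hI, Ideal.mem_bot] at h
  let ξ' : Fin r → W := fun i => ξ i * (1 - ε)
  have hker : Ideal.span {∑ i, C (b i) * X i - (1 : MvPolynomial (Fin r) B)} ≤ RingHom.ker (aeval ξ') := by
    rw [Ideal.span_le, Set.singleton_subset_iff]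
    show aeval ξ' _ = 0
    have hs : (∑ i, algebraMap B W (b i) * ξ i) = 1 + ε := by
      simp [ε, map_sum]
    simp only [map_sub, map_sum, map_mul, aeval_C, aeval_X, map_one, ξ', ← mul_assoc, ← Finset.sum_mul, hs]
    linear_combination -hε2
  refine ⟨Ideal.Quotient.liftₐ _ (aeval ξ') fun x hx => hker hx,
    Ideal.Quotient.algHom_ext _ (MvPolynomial.algHom_ext fun i => ?_)⟩
  show Ideal.Quotient.mk I (aeval ξ' (X i)) = _
  rw [aeval_X, map_mul, map_sub, map_one, Ideal.Quotient.eq_zero_iff_mem.2 hε, sub_zero, mul_one, hξ]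
  rfl

/-- A factorization whose extended singular ideal is the unit ideal refines to a smooth one. -/
theorem exists_smooth_of_singular_top {R A B Λ : Type u} [CommRing R] [CommRing A] [Algebra R A]
    [CommRing B] [Algebra R B] [Algebra.FinitePresentation R B] [CommRing Λ] [Algebra R Λ]
    (g : A →ₐ[R] B) (h : B →ₐ[R] Λ) (htop : (singularIdeal R B).map h = ⊤) :
    ∃ (B' : Type u) (_ : CommRing B') (_ : Algebra R B'), Algebra.Smooth R B' ∧
      ∃ (g' : A →ₐ[R] B') (h' : B' →ₐ[R] Λ), h'.comp g' = h.comp g := by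
  have h1 : (1 : Λ) ∈ Ideal.span (h '' (singularIdeal R B : Set B)) := by
    rw [← Ideal.map, htop]; trivial
  obtain ⟨r, c, e, he⟩ : ∃ (r : ℕ) (c : Fin r → Λ) (e : Fin r → (h '' (singularIdeal R B : Set B))),
      ∑ i, c i • (e i : Λ) = 1 := (Submodule.mem_span_set' (R := Λ)).1 h1
  choose b hb hbe using fun i => (e i).2
  let f : MvPolynomial (Fin r) B := ∑ i, C (b i) * X i - 1
  let B' := MvPolynomial (Fin r) B ⧸ Ideal.span {∑ i, C (b i) * X i - (1 : MvPolynomial (Fin r) B)}
  have : Algebra.FinitePresentation B B' :=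
    Algebra.FinitePresentation.quotient (Submodule.fg_span_singleton _)
  have : Algebra.FinitePresentation R B' := Algebra.FinitePresentation.trans R B B'
  have hfs := formallySmooth_unimodular b
  have hsm : Algebra.smoothLocus R B' = Set.univ := by
    refine Set.eq_univ_of_forall fun Q => ?_
    show Algebra.IsSmoothAt R Q.asIdeal
    obtain ⟨i, hi⟩ : ∃ i, b i ∉ Q.asIdeal.comap (algebraMap B B') := by
      by_contra hall
      push Not at hall
      refine Q.isPrime.ne_top ((Ideal.eq_top_iff_one _).2 ?_)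
      have h0 : Ideal.Quotient.mk (Ideal.span {∑ i, C (b i) * X i - (1 : MvPolynomial (Fin r) B)})
          (∑ i, C (b i) * X i) = 1 := by
        rw [← map_one (Ideal.Quotient.mk _), Ideal.Quotient.eq]
        exact Ideal.mem_span_singleton_self _
      rw [← h0, map_sum]
      refine Ideal.sum_mem _ fun i _ => ?_
      rw [map_mul]
      exact Ideal.mul_mem_right _ _ (hall i)
    refine SmoothAtBasics.isSmoothAt_trans Q.asIdeal
      (SmoothAtBasics.mem_singularIdeal_iff.1 (hb i) _ hi) ?_
    have : Algebra.FormallySmooth B' (Localization.AtPrime Q.asIdeal) :=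
      Algebra.FormallySmooth.of_isLocalization Q.asIdeal.primeCompl
    exact Algebra.FormallySmooth.comp B B' (Localization.AtPrime Q.asIdeal)
  have hsmB : Algebra.Smooth R B' :=
    { formallySmooth := Algebra.smoothLocus_eq_univ_iff.1 hsm, finitePresentation := inferInstance }
  letI : Algebra B Λ := h.toRingHom.toAlgebra
  have : IsScalarTower R B Λ := IsScalarTower.of_algebraMap_eq fun x => (h.commutes x).symm
  have hk : Ideal.span {∑ i, C (b i) * X i - (1 : MvPolynomial (Fin r) B)} ≤ RingHom.ker (aeval (R := B) c) := by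
    rw [Ideal.span_le, Set.singleton_subset_iff]
    show aeval c _ = 0
    simp only [map_sub, map_sum, map_mul, aeval_C, aeval_X, map_one, sub_eq_zero]
    refine (Finset.sum_congr rfl fun i _ => ?_).trans he
    show h (b i) * c i = c i • (e i : Λ)
    rw [hbe, smul_eq_mul, mul_comm]
  let h' : B' →ₐ[B] Λ := Ideal.Quotient.liftₐ _ (aeval c) fun x hx => hk hx
  exact ⟨B', inferInstance, inferInstance, hsmB, (IsScalarTower.toAlgHom R B B').comp g, h'.restrictScalars R,
    AlgHom.ext fun x => h'.commutes (g x)⟩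

/-- The local resolution over a field in any characteristic. -/
theorem resolvable_field {k A Λ : Type u} [Field k] [CommRing A] [Algebra k A] [Algebra.FinitePresentation k A]
    [CommRing Λ] [Algebra k Λ] [IsNoetherianRing Λ] (hreg : CAlg.IsGeometricallyRegular k Λ) (φ : A →ₐ[k] Λ)
    (𝔮 : Ideal Λ) [𝔮.IsPrime] (hmin : 𝔮 ∈ (singRad k φ).minimalPrimes) : Resolvable k φ 𝔮 := by
  obtain ⟨p, hp⟩ := CharP.exists k
  rcases CharP.char_is_prime_or_zero k p with hprime | rfl
  · haveI := Fact.mk hprime
    exact resolvable_charP p hreg φ 𝔮 hmin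
  · haveI : CharZero k := CharP.charP_to_charZero k
    have : IsRegularLocalRing (Localization.AtPrime 𝔮) := isRegularLocalRing_of_geometricallyRegular
      (Groth.Calg4.isGeometricallyRegular_localization 𝔮.primeCompl _ hreg)
    have : Algebra.IsGeometricallyReduced k 𝔮.ResidueField := Groth.Ega41Sep.isGeometricallyReduced_charZero k _
    exact ResolveRegular.main φ 𝔮 hmin

/-- Noetherian induction on the extended singular ideal. -/
theorem indSmooth_of_geometricallyRegular {k Λ : Type u} [Field k] [CommRing Λ] [Algebra k Λ]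
    [IsNoetherianRing Λ] (hreg : CAlg.IsGeometricallyRegular k Λ) : IndSmooth k Λ := by
  intro A _ _ hA f
  let P : Set (Ideal Λ) := {J | ∃ (B : Type u) (_ : CommRing B) (_ : Algebra k B), Algebra.FinitePresentation k B ∧
    ∃ (g : A →ₐ[k] B) (h : B →ₐ[k] Λ), h.comp g = f ∧ singRad k h = J}
  have hP : P.Nonempty := ⟨singRad k f, A, inferInstance, inferInstance, hA, AlgHom.id _ _, f, AlgHom.comp_id _, rfl⟩
  obtain ⟨J, ⟨B, _, _, hB, g, h, hgh, rfl⟩, hmax⟩ :=
    (wellFounded_gt (α := Ideal Λ)).has_min P hP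
  by_cases htop : singRad k h = ⊤
  · rw [singRad, Ideal.radical_eq_top] at htop
    obtain ⟨B', _, _, hB', g', h', e⟩ := exists_smooth_of_singular_top g h htop
    exact ⟨B', inferInstance, inferInstance, hB', g', h', e.trans hgh⟩
  · obtain ⟨q, hq⟩ := Ideal.nonempty_minimalPrimes htop
    haveI : q.IsPrime := hq.1.1
    obtain ⟨B', _, _, hB', g', h', hgh', hle, hnle⟩ := resolvable_field hreg h q hq
    refine absurd ?_ (hmax (singRad k h') ⟨B', inferInstance, inferInstance, hB', g'.comp g, h',
      by rw [← AlgHom.comp_assoc, hgh', hgh], rfl⟩)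
    exact lt_of_le_of_ne hle fun he => hnle (he ▸ hq.1.2)

end Groth.Calg1.Popescu
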