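import Groth.Agent.Calg1.Popescu.FieldCase
import Groth.Agent.Calg4.RegularHom

/-!
The generic fibre of a regular map out of a reduced Noetherian ring is ind-smooth.
-/

set_option autoImplicit false
set_option linter.style.haveILetI false

universe u

open Smoothing
open scoped TensorProduct

namespace Groth.Calg1.Popescu

/-- A finite product of algebras of finite type is of finite type. -/
theorem finiteType_pi {R : Type*} [CommRing R] {ι : Type*} [Finite ι] (A : ι → Type*)
    [∀ i, CommRing (A i)] [∀ i, Algebra R (A i)] [hA : ∀ i, Algebra.FiniteType R (A i)] :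
    Algebra.FiniteType R (∀ i, A i) := by
  classical
  have := Fintype.ofFinite ι
  choose s hs using fun i => (hA i).out
  let G : Finset (∀ i, A i) := Finset.univ.biUnion fun i => (insert 1 (s i)).image (Pi.single i)
  refine ⟨⟨G, top_unique fun a _ => ?_⟩⟩
  rw [← Finset.univ_sum_single a]
  refine Subalgebra.sum_mem _ fun i _ => ?_
  have hG : ∀ x ∈ insert 1 (s i), Pi.single i x ∈ Algebra.adjoin R (G : Set (∀ i, A i)) := fun x hx =>
    Algebra.subset_adjoin (Finset.mem_coe.2 (Finset.mem_biUnion.2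
      ⟨i, Finset.mem_univ i, Finset.mem_image.2 ⟨x, hx, rfl⟩⟩))
  suffices ∀ y, y ∈ Algebra.adjoin R (s i : Set (A i)) → Pi.single i y ∈ Algebra.adjoin R (G : Set (∀ i, A i)) from
    this _ (hs i ▸ trivial)
  intro y hy
  induction hy using Algebra.adjoin_induction with
  | mem x hx => exact hG x (Finset.mem_insert_of_mem hx)
  | algebraMap r =>
    rw [Algebra.algebraMap_eq_smul_one, Pi.single_smul]
    exact Subalgebra.smul_mem _ (hG 1 (Finset.mem_insert_self _ _)) r
  | add x y _ _ hx hy => rw [Pi.single_add]; exact add_mem hx hy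
  | mul x y _ _ hx hy => rw [Pi.single_mul]; exact mul_mem hx hy

/-- Ind-smoothness over a reduced Artinian ring is checked on its residue fields. -/
theorem indSmooth_of_artinian_reduced {Q Λ : Type u} [CommRing Q] [IsArtinianRing Q] [IsReduced Q] [CommRing Λ]
    [Algebra Q Λ]
    (h : ∀ m : MaximalSpectrum Q, IndSmooth (Q ⧸ m.asIdeal) ((Q ⧸ m.asIdeal) ⊗[Q] Λ)) : IndSmooth Q Λ := by
  classical
  intro A _ _ hA f
  have hk : ∀ m : MaximalSpectrum Q, Algebra.FormallySmooth Q (Q ⧸ m.asIdeal) :=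
    (Algebra.FormallySmooth.pi_iff (R := Q) (fun m : MaximalSpectrum Q => Q ⧸ m.asIdeal)).1
      (Algebra.FormallySmooth.of_equiv (IsArtinianRing.equivPi Q))
  let fm : ∀ m : MaximalSpectrum Q, (Q ⧸ m.asIdeal) ⊗[Q] A →ₐ[Q ⧸ m.asIdeal] (Q ⧸ m.asIdeal) ⊗[Q] Λ :=
    fun m => Algebra.TensorProduct.map (AlgHom.id _ _) f
  choose B iB iAB hB g h' hgh using fun m => h m _ inferInstance (fm m)
  let _ := fun m => ((algebraMap (Q ⧸ m.asIdeal) (B m)).comp (Ideal.Quotient.mk m.asIdeal)).toAlgebra
  have htow : ∀ m, IsScalarTower Q (Q ⧸ m.asIdeal) (B m) := fun m => IsScalarTower.of_algebraMap_eq' rfl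
  have hBft : ∀ m, Algebra.FiniteType Q (B m) := fun m => by
    have := (hB m).finitePresentation
    exact Algebra.FiniteType.trans (S := Q ⧸ m.asIdeal) inferInstance inferInstance
  have hBfs : ∀ m, Algebra.FormallySmooth Q (B m) := fun m => by
    have := (hB m).formallySmooth
    exact Algebra.FormallySmooth.comp Q (Q ⧸ m.asIdeal) (B m)
  have : Algebra.FiniteType Q (∀ m, B m) := finiteType_pi B
  have hP : Algebra.Smooth Q (∀ m, B m) :=
    { formallySmooth := inferInstance, finitePresentation := Algebra.FinitePresentation.of_finiteType.1 inferInstance }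
  let gP : A →ₐ[Q] ∀ m, B m :=
    AlgHom.pi fun m => ((g m).restrictScalars Q).comp Algebra.TensorProduct.includeRight
  let hm : ∀ m, B m →ₐ[Q] Λ ⊗[Q] (Q ⧸ m.asIdeal) := fun m =>
    (Algebra.TensorProduct.comm Q (Q ⧸ m.asIdeal) Λ).toAlgHom.comp ((h' m).restrictScalars Q)
  let _ : Fintype (MaximalSpectrum Q) := Fintype.ofFinite _
  let e : Λ ≃ₐ[Q] ∀ m : MaximalSpectrum Q, Λ ⊗[Q] (Q ⧸ m.asIdeal) :=
    ((Algebra.TensorProduct.rid Q Q Λ).symm.trans
      (Algebra.TensorProduct.congr AlgEquiv.refl ((IsArtinianRing.equivPi Q).restrictScalars Q))).trans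
      (Algebra.TensorProduct.piRight Q Q Λ fun m : MaximalSpectrum Q => Q ⧸ m.asIdeal)
  let hPi : (∀ m, B m) →ₐ[Q] Λ :=
    e.symm.toAlgHom.comp (AlgHom.pi fun m => (hm m).comp (Pi.evalAlgHom Q B m))
  refine ⟨∀ m, B m, inferInstance, inferInstance, hP, gP, hPi, AlgHom.ext fun x => ?_⟩
  refine (AlgEquiv.symm_apply_eq e).2 (funext fun m => ?_)
  show hm m (g m (1 ⊗ₜ x)) = e (f x) m
  have h1 : h' m (g m (1 ⊗ₜ x)) = 1 ⊗ₜ f x := AlgHom.congr_fun (hgh m) (1 ⊗ₜ x)
  show Algebra.TensorProduct.comm Q (Q ⧸ m.asIdeal) Λ (h' m (g m (1 ⊗ₜ x))) = _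
  rw [h1, Algebra.TensorProduct.comm_tmul]
  simp only [e, AlgEquiv.trans_apply, Algebra.TensorProduct.congr_apply, Algebra.TensorProduct.rid_symm_apply,
    Algebra.TensorProduct.map_tmul, Algebra.TensorProduct.piRight_tmul]
  refine congrArg (f x ⊗ₜ[Q] ·) ?_
  show (1 : Q ⧸ m.asIdeal) = (IsArtinianRing.equivPi Q) 1 m
  rw [IsArtinianRing.equivPi_apply]
  rfl

/-- The total ring of fractions of a reduced Noetherian ring is Artinian. -/
theorem isArtinianRing_fractionRing {R : Type u} [CommRing R] [IsNoetherianRing R] [IsReduced R] :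
    IsArtinianRing (FractionRing R) := by
  classical
  have : IsNoetherianRing (FractionRing R) :=
    IsLocalization.isNoetherianRing (nonZeroDivisors R) _ inferInstance
  refine isArtinianRing_iff_krullDimLE_zero.2 (Ring.KrullDimLE.mk₀ fun P hP => ?_)
  have key : ∀ P : Ideal (FractionRing R), P.IsPrime → P.comap (algebraMap R (FractionRing R)) ∈ minimalPrimes R := by
    intro P hP
    have hdisj := ((IsLocalization.isPrime_iff_isPrime_disjoint (nonZeroDivisors R) (FractionRing R) P).1 hP).2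
    have hfin : (minimalPrimes R).Finite := minimalPrimes.finite_of_isNoetherianRing R
    have hsub : (P.comap (algebraMap R (FractionRing R)) : Set R) ⊆ ⋃ q ∈ (hfin.toFinset : Set (Ideal R)), q := by
      intro x hx
      have hxn : x ∉ nonZeroDivisors R := fun h => Set.disjoint_left.1 hdisj h hx
      rw [mem_nonZeroDivisors_iff_right] at hxn
      push Not at hxn
      obtain ⟨y, hxy, hy⟩ := hxn
      have hmem : x ∈ ⋃ q ∈ (⊥ : Ideal R).minimalPrimes, (q : Set R) := by
        rw [Ideal.iUnion_minimalPrimes]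
        refine ⟨y, fun hyr => hy ?_, ?_⟩
        · obtain ⟨n, hn⟩ := hyr
          exact IsReduced.eq_zero _ ⟨n, hn⟩
        · rw [mul_comm, hxy]; exact zero_mem _
      simpa [minimalPrimes] using hmem
    obtain ⟨q, hq, hle⟩ := (Ideal.subset_union_prime ⊥ ⊥ (fun q hq _ _ =>
      Ideal.minimalPrimes_isPrime (hfin.mem_toFinset.1 hq))).1 hsub
    rw [hfin.mem_toFinset] at hq
    have := hP.comap (algebraMap R (FractionRing R))
    exact (le_antisymm hle (hq.2 ⟨this, bot_le⟩ hle)) ▸ hq
  refine ⟨⟨hP.ne_top, fun J hJ => ?_⟩⟩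
  by_contra hJt
  obtain ⟨M, hM, hJM⟩ := Ideal.exists_le_maximal J hJt
  have hle : P ≤ M := hJ.le.trans hJM
  have hc : P.comap (algebraMap R (FractionRing R)) = M.comap (algebraMap R (FractionRing R)) :=
    le_antisymm (Ideal.comap_mono hle)
      ((key M hM.isPrime).2 ⟨hP.comap _, bot_le⟩ (Ideal.comap_mono hle))
  have hMP : M = P := by
    exact (IsLocalization.map_comap (nonZeroDivisors R) (FractionRing R) M).symm.trans
      ((congrArg (Ideal.map _) hc.symm).trans
        (IsLocalization.map_comap (nonZeroDivisors R) (FractionRing R) P))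
  exact absurd (lt_of_lt_of_le hJ hJM) (hMP ▸ lt_irrefl P)

/-- The generic fibre of a regular map from a reduced Noetherian ring is ind-smooth. -/
theorem indSmooth_generic {R Λ : Type u} [CommRing R] [IsNoetherianRing R] [IsReduced R] [CommRing Λ]
    [IsNoetherianRing Λ] [Algebra R Λ] (hreg : CAlg.IsRegularHom R Λ) :
    IndSmooth (FractionRing R) (FractionRing R ⊗[R] Λ) := by
  have := isArtinianRing_fractionRing (R := R)
  refine indSmooth_of_artinian_reduced fun m => ?_
  letI : Field (FractionRing R ⧸ m.asIdeal) := Ideal.Quotient.field m.asIdeal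
  let km := FractionRing R ⧸ m.asIdeal
  have : Algebra.EssFiniteType R (FractionRing R) := Algebra.EssFiniteType.of_isLocalization _ (nonZeroDivisors R)
  have : Algebra.EssFiniteType R (FractionRing R ⧸ m.asIdeal) :=
    Algebra.EssFiniteType.comp R (FractionRing R) _
  let e : (FractionRing R ⧸ m.asIdeal) ⊗[FractionRing R] (FractionRing R ⊗[R] Λ) ≃ₐ[FractionRing R ⧸ m.asIdeal]
      (FractionRing R ⧸ m.asIdeal) ⊗[R] Λ := Algebra.TensorProduct.cancelBaseChange R _ _ _ Λ
  have : IsNoetherianRing ((FractionRing R ⧸ m.asIdeal) ⊗[FractionRing R] (FractionRing R ⊗[R] Λ)) := by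
    have : IsNoetherianRing ((FractionRing R ⧸ m.asIdeal) ⊗[R] Λ) := by
      have : Algebra.EssFiniteType Λ (Λ ⊗[R] (FractionRing R ⧸ m.asIdeal)) := inferInstance
      have := Algebra.EssFiniteType.isNoetherianRing Λ (Λ ⊗[R] (FractionRing R ⧸ m.asIdeal))
      exact isNoetherianRing_of_ringEquiv _ (Algebra.TensorProduct.comm R Λ _).toRingEquiv
    exact isNoetherianRing_of_ringEquiv _ e.symm.toRingEquiv
  refine indSmooth_of_geometricallyRegular fun L _ _ hL => ?_
  let : Algebra R L := ((algebraMap (FractionRing R ⧸ m.asIdeal) L).comp (algebraMap R _)).toAlgebra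
  have : IsScalarTower R (FractionRing R ⧸ m.asIdeal) L := IsScalarTower.of_algebraMap_eq' rfl
  have : Algebra.EssFiniteType R L := Algebra.EssFiniteType.comp R (FractionRing R ⧸ m.asIdeal) L
  have := Groth.Calg4.IsRegularHom.isRegularRing_tensor hreg L
  exact IsRegularRing.of_ringEquiv ((Algebra.TensorProduct.congr AlgEquiv.refl e).trans
    (Algebra.TensorProduct.cancelBaseChange R (FractionRing R ⧸ m.asIdeal) (FractionRing R ⧸ m.asIdeal) L Λ)).toRingEquiv.symm

end Groth.Calg1.Popescu
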