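import Groth.Agent.EGA41Two.GrLength
import Mathlib.RingTheory.RegularLocalRing.Defs
import Mathlib.RingTheory.Polynomial.Basic

/-!
Powers of the maximal ideal of a regular local ring and polynomial models of the quotients by them.
-/

set_option autoImplicit false
set_option linter.style.haveILetI false

universe u v

open IsLocalRing

namespace Groth.Calg1.Popescu

/-- A generating system of minimal cardinality of the maximal ideal of a regular local ring is
quasi-regular. -/
theorem isQuasiRegular_parameters {A : Type u} [CommRing A] [IsRegularLocalRing A] {d : ℕ} (f : Fin d → A)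
    (hsp : Ideal.span (Set.range f) = maximalIdeal A) (hd : (maximalIdeal A).spanFinrank = d) :
    CAlgX.IsQuasiRegular f := by
  have hf : ∀ i, f i ∈ maximalIdeal A := fun i => hsp ▸ Ideal.subset_span ⟨i, rfl⟩
  have hlen : ∀ n : ℕ, Module.length A (A ⧸ maximalIdeal A ^ (n + 1)) = ((n + d).choose n : ℕ∞) := fun n => by
    rw [← hd, spanFinrank_maximalIdeal_eq_finrank_cotangentSpace]
    exact (Groth.EGA41Two.GrLength.regular_iff.mp inferInstance) n
  exact fun n => (Groth.EGA41Two.GrLength.injective_Φ_iff f hf hsp n).mp
    ((Groth.EGA41Two.GrLength.length_eq_choose_iff f hf hsp).mp hlen n)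

/-- A high power of an ideal lies in the ideal of powers of generators. -/
theorem pow_le_span_pow {A : Type u} [CommRing A] {d : ℕ} (g : Fin d → A) (e : ℕ) :
    Ideal.span (Set.range g) ^ (d * e + 1) ≤ Ideal.span (Set.range fun i => g i ^ e) := by
  classical
  suffices h : ∀ s : Finset (Fin d), Ideal.span (g '' s) ^ (s.card * e + 1) ≤
      Ideal.span ((fun i => g i ^ e) '' s) by
    simpa [Set.image_univ] using h Finset.univ
  intro s
  induction s using Finset.induction_on with
  | empty => simp
  | @insert a s ha ih =>
    rw [Finset.card_insert_of_notMem ha, Finset.coe_insert, Set.image_insert_eq, Set.image_insert_eq,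
      Ideal.span_insert, Ideal.span_insert, show (s.card + 1) * e + 1 = e + (s.card * e + 1) by ring]
    refine (Ideal.sup_pow_add_le_pow_sup_pow).trans (sup_le_sup (le_of_eq ?_) ih)
    rw [Ideal.span_singleton_pow]

/-- Over a local ring whose parameters map to parameters, a polynomial vanishing at an approximate
root modulo a power of the maximal ideal lies in the obvious ideal. -/
theorem mem_of_eval₂_mem_pow {F L : Type u} [CommRing F] [IsLocalRing F] [CommRing L] [IsLocalRing L]
    (φ : F →+* L) {d : ℕ} (g : Fin d → F) (hg : Ideal.span (Set.range g) = maximalIdeal F)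
    (hgL : Ideal.span (Set.range fun i => φ (g i)) = maximalIdeal L)
    (hq : CAlgX.IsQuasiRegular fun i => φ (g i)) (θ : L) (Q : Polynomial F)
    (hQ : Irreducible (Q.map (residue F))) (N : ℕ) (hQθ : Q.eval₂ φ θ ∈ maximalIdeal L ^ N)
    (P : Polynomial F) (hP : P.eval₂ φ θ ∈ maximalIdeal L ^ N) :
    P ∈ (maximalIdeal F ^ N).map Polynomial.C ⊔ Ideal.span {Q} := by
  classical
  rcases Nat.eq_zero_or_pos N with rfl | hN
  · rw [pow_zero, Ideal.one_eq_top, Ideal.map_top, top_sup_eq]
    trivial
  let ev : Polynomial F →+* L := Polynomial.eval₂RingHom φ θ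
  let red : Polynomial F →+* Polynomial (ResidueField F) := Polynomial.mapRingHom (residue F)
  let M : Ideal (Polynomial F) := (maximalIdeal F).map Polynomial.C ⊔ Ideal.span {Q}
  have hsurj : Function.Surjective red := Polynomial.map_surjective _ residue_surjective
  have hker : RingHom.ker red = (maximalIdeal F).map Polynomial.C := by
    rw [Polynomial.ker_mapRingHom, ker_residue]
  have hMmax : M.IsMaximal := by
    have : (Ideal.span {Q.map (residue F)}).IsMaximal :=
      PrincipalIdealRing.isMaximal_of_irreducible hQ
    have h1 : M = (Ideal.span {Q.map (residue F)}).comap red := by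
      rw [show Ideal.span {Q.map (residue F)} = (Ideal.span {Q}).map red by
          rw [Ideal.map_span, Set.image_singleton]; rfl,
        Ideal.comap_map_of_surjective red hsurj, ← RingHom.ker_eq_comap_bot, hker, sup_comm]
    rw [h1]
    exact Ideal.comap_isMaximal_of_surjective red hsurj
  have hM : ∀ x, ev x ∈ maximalIdeal L → x ∈ M := by
    have hle : M ≤ (maximalIdeal L).comap ev := by
      refine sup_le (Ideal.map_le_iff_le_comap.2 fun x hx => ?_) (Ideal.span_le.2 ?_)
      · rw [Ideal.mem_comap, Ideal.mem_comap, show ev (Polynomial.C x) = φ x from Polynomial.eval₂_C φ θ]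
        rw [← hg] at hx
        have := Ideal.mem_map_of_mem φ hx
        rw [Ideal.map_span, ← Set.range_comp] at this
        rwa [show (φ ∘ g) = fun i => φ (g i) from rfl, hgL] at this
      · rw [Set.singleton_subset_iff]
        show Q.eval₂ φ θ ∈ maximalIdeal L
        exact Ideal.pow_le_self (Nat.pos_iff_ne_zero.1 hN) hQθ
    intro x hx
    rw [hMmax.eq_of_le (Ideal.comap_ne_top _ (maximalIdeal.isMaximal L).ne_top) hle]
    exact hx
  suffices h : ∀ j ≤ N, P ∈ (maximalIdeal F ^ j).map Polynomial.C ⊔ Ideal.span {Q} from h N le_rfl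
  intro j hj
  induction j with
  | zero => rw [pow_zero, Ideal.one_eq_top, Ideal.map_top, top_sup_eq]; trivial
  | succ j ih =>
    obtain ⟨a, ha, b, hb, hab⟩ := Submodule.mem_sup.1 (ih (by omega))
    have hmap : (maximalIdeal F).map Polynomial.C = Ideal.span (Set.range fun i => Polynomial.C (g i)) := by
      rw [← hg, Ideal.map_span, ← Set.range_comp]
      rfl
    rw [Ideal.map_pow, hmap] at ha
    obtain ⟨H, hH, hHa⟩ := Groth.EGA41Two.exists_homogeneous (fun i => Polynomial.C (g i)) ha
    have hea : ev a ∈ maximalIdeal L ^ (j + 1) := by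
      obtain ⟨c, rfl⟩ := Ideal.mem_span_singleton'.1 hb
      rw [eq_sub_of_add_eq hab, map_sub, map_mul]
      exact Ideal.pow_le_pow_right hj (sub_mem hP (Ideal.mul_mem_left _ _ hQθ))
    have hev : ev a = MvPolynomial.eval (fun i => φ (g i)) (MvPolynomial.map ev H) := by
      rw [← hHa, MvPolynomial.map_eval]
      rw [show (⇑ev ∘ fun i => Polynomial.C (g i)) = fun i => φ (g i) from
        funext fun i => Polynomial.eval₂_C φ θ]
    have hc : ∀ e, H.coeff e ∈ M := fun e => hM _ (by
      have := hq j (MvPolynomial.map ev H) (hH.map ev) (by rw [hgL, ← hev]; exact hea) e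
      rwa [hgL, MvPolynomial.coeff_map] at this)
    rw [← hab]
    refine add_mem ?_ (Ideal.mem_sup_right hb)
    rw [← hHa]
    have h2 : MvPolynomial.eval (fun i => Polynomial.C (g i)) H ∈ M * (maximalIdeal F).map Polynomial.C ^ j := by
      rw [MvPolynomial.eval_eq']
      refine Ideal.sum_mem _ fun e he => Ideal.mul_mem_mul (hc e) ?_
      rw [hmap, ← hH (MvPolynomial.mem_support_iff.1 he)]
      simp only [Finsupp.weight_apply, smul_eq_mul, Pi.one_apply, mul_one]
      rw [Finsupp.sum_fintype _ _ (fun _ => rfl), ← Finset.prod_pow_eq_pow_sum]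
      exact Ideal.prod_mem_prod fun i _ => Ideal.pow_mem_pow (Ideal.subset_span (Set.mem_range_self i)) _
    refine (?_ : M * (maximalIdeal F).map Polynomial.C ^ j ≤ _) h2
    rw [Ideal.sup_mul, ← pow_succ', Ideal.map_pow]
    exact sup_le_sup le_rfl Ideal.mul_le_left

end Groth.Calg1.Popescu
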