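import Mathlib
import Groth.Agent.Ega41Sep.FieldPBasis

/-!
Elementary lemmas for the construction of coefficient models of regular local algebras in positive
characteristic.
-/

set_option autoImplicit false
set_option linter.style.haveILetI false

universe u v

open IsLocalRing

namespace Groth.Calg1.Popescu

/-- A member of the subalgebra generated by a set lies in the one generated by a finite subset. -/
theorem exists_finset_mem_adjoin {R A : Type*} [CommRing R] [CommRing A] [Algebra R A] {S : Set A} {x : A}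
    (hx : x ∈ Algebra.adjoin R S) : ∃ T : Finset A, (T : Set A) ⊆ S ∧ x ∈ Algebra.adjoin R (T : Set A) := by
  classical
  induction hx using Algebra.adjoin_induction with
  | mem z hz => exact ⟨{z}, by simpa using hz, Algebra.subset_adjoin (by simp)⟩
  | algebraMap r => exact ⟨∅, by simp, Subalgebra.algebraMap_mem _ r⟩
  | add a b _ _ ha hb =>
    obtain ⟨T, hT, ha⟩ := ha
    obtain ⟨T', hT', hb⟩ := hb
    exact ⟨T ∪ T', by simpa using ⟨hT, hT'⟩, add_mem (Algebra.adjoin_mono (by simp) ha)
      (Algebra.adjoin_mono (by simp) hb)⟩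
  | mul a b _ _ ha hb =>
    obtain ⟨T, hT, ha⟩ := ha
    obtain ⟨T', hT', hb⟩ := hb
    exact ⟨T ∪ T', by simpa using ⟨hT, hT'⟩, mul_mem (Algebra.adjoin_mono (by simp) ha)
      (Algebra.adjoin_mono (by simp) hb)⟩

/-- A field extension in characteristic `p` is generated by `p^e`-th powers and any set whose
differentials span. -/
theorem mem_adjoin_pow_union {p : ℕ} [Fact p.Prime] {k K : Type u} [Field k] [Field K] [Algebra k K]
    [CharP K p] (s : Set K) (hs : Submodule.span K (KaehlerDifferential.D k K '' s) = ⊤) (e : ℕ) (x : K) :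
    x ∈ Algebra.adjoin k (Set.range (fun v : K => v ^ p ^ e) ∪ s) := by
  induction e generalizing x with
  | zero =>
    refine Algebra.subset_adjoin (Or.inl ⟨x, ?_⟩)
    simp
  | succ e ih =>
    let T := Algebra.adjoin k (Set.range (fun v : K => v ^ p ^ (e + 1)) ∪ s)
    have h1 : ∀ v : K, v ∈ Algebra.adjoin k (Set.range (fun v : K => v ^ p) ∪ s) := by
      intro v
      have h := (Groth.Ega41Sep.mem_adjoin_iff_D_mem_span (p := p) (k := k) s v).2 (hs ▸ Submodule.mem_top)
      induction h using Algebra.adjoin_induction with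
      | mem z hz => exact Algebra.subset_adjoin (Or.inr hz)
      | algebraMap r =>
        show (r : K) ∈ _
        exact Algebra.adjoin_mono Set.subset_union_left r.2
      | add a b _ _ ha hb => exact add_mem ha hb
      | mul a b _ _ ha hb => exact mul_mem ha hb
    refine (Algebra.adjoin_le ?_ : _ ≤ T) (ih x)
    rintro _ (⟨v, rfl⟩ | hz)
    · show v ^ p ^ e ∈ T
      have hv := h1 v
      induction hv using Algebra.adjoin_induction with
      | mem z hz =>
        rcases hz with ⟨w, rfl⟩ | hz
        · refine Algebra.subset_adjoin (Or.inl ⟨w, ?_⟩)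
          show w ^ p ^ (e + 1) = (w ^ p) ^ p ^ e
          rw [← pow_mul, pow_succ']
        · exact pow_mem (show z ∈ T from Algebra.subset_adjoin (Or.inr hz)) _
      | algebraMap r => exact pow_mem (T.algebraMap_mem r) _
      | add a b _ _ ha hb => rw [add_pow_char_pow]; exact add_mem ha hb
      | mul a b _ _ ha hb => rw [mul_pow]; exact mul_mem ha hb
    · exact Algebra.subset_adjoin (Or.inr hz)

/-- The chain rule for a derivation. -/
theorem derivation_aeval {R A M : Type*} [CommRing R] [CommRing A] [Algebra R A] [AddCommGroup M]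
    [Module A M] [Module R M] (D : Derivation R A M) {n : ℕ} (v : Fin n → A)
    (h : MvPolynomial (Fin n) R) :
    D (MvPolynomial.aeval v h) = ∑ i, MvPolynomial.aeval v (MvPolynomial.pderiv i h) • D (v i) := by
  classical
  induction h using MvPolynomial.induction_on with
  | C c => simp
  | add p q hp hq => simp only [map_add, hp, hq, add_smul, Finset.sum_add_distrib]
  | mul_X q j hq =>
    have hp : ∀ i, MvPolynomial.aeval v (MvPolynomial.pderiv i (q * MvPolynomial.X j)) =
        MvPolynomial.aeval v (MvPolynomial.pderiv i q) * v j +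
          MvPolynomial.aeval v q * (if i = j then 1 else 0) := by
      intro i
      rw [MvPolynomial.pderiv_mul, map_add, map_mul, map_mul, MvPolynomial.aeval_X]
      by_cases h : i = j
      · subst h; simp
      · simp [MvPolynomial.pderiv_X_of_ne (Ne.symm h), h]
    rw [map_mul, MvPolynomial.aeval_X, Derivation.leibniz, hq, Finset.smul_sum]
    simp only [hp, add_smul, Finset.sum_add_distrib, smul_smul, mul_ite, mul_one, mul_zero, ite_smul,
      zero_smul, Finset.sum_ite_eq', Finset.mem_univ, if_true]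
    rw [add_comm]
    congr 1
    exact Finset.sum_congr rfl fun i _ => by rw [mul_comm]

/-- An irredundant family of generators modulo a submodule. -/
theorem exists_minimal_family {A : Type u} [CommRing A] [IsLocalRing A] [IsNoetherianRing A] (S : Set A)
    (V : Ideal A) (hS : S ⊆ maximalIdeal A) (hV : V ≤ maximalIdeal A) (h : maximalIdeal A ≤ Ideal.span S ⊔ V) :
    ∃ (c : ℕ) (f : Fin c → A), (∀ i, f i ∈ S) ∧ maximalIdeal A ≤ Ideal.span (Set.range f) ⊔ V ∧
      ∀ a : Fin c → A, ∑ i, a i * f i ∈ V → ∀ i, a i ∈ maximalIdeal A := by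
  classical
  have hex : ∃ (c : ℕ), ∃ f : Fin c → A, (∀ i, f i ∈ S) ∧ maximalIdeal A ≤ Ideal.span (Set.range f) ⊔ V := by
    obtain ⟨T, hTS, hT⟩ := (Submodule.fg_span_iff_fg_span_finset_subset (R := A) S).1 (IsNoetherian.noetherian (Submodule.span A S))
    refine ⟨T.card, fun i => (T.equivFin.symm i : A), fun i => hTS (T.equivFin.symm i).2, h.trans ?_⟩
    rw [show Ideal.span S = Ideal.span (T : Set A) from hT]
    refine sup_le_sup_right (Ideal.span_le.2 fun z hz => Ideal.subset_span ?_) _
    exact ⟨T.equivFin ⟨z, hz⟩, by simp⟩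
  obtain ⟨f, hfS, hf⟩ := Nat.find_spec hex
  refine ⟨_, f, hfS, hf, fun a ha i => ?_⟩
  by_contra hai
  obtain ⟨u, hu⟩ := notMem_maximalIdeal.1 hai
  obtain ⟨c, hc⟩ : ∃ c, Nat.find hex = c + 1 := Nat.exists_eq_succ_of_ne_zero fun h0 => (h0 ▸ i).elim0
  refine Nat.find_min hex (m := c) (by omega) ⟨fun l => f (Fin.cast hc.symm ((Fin.cast hc i).succAbove l)),
    fun l => hfS _, hf.trans (sup_le ?_ le_sup_right)⟩
  have hcover : ∀ l, l ≠ i → f l ∈ Ideal.span (Set.range fun l' =>
      f (Fin.cast hc.symm ((Fin.cast hc i).succAbove l'))) ⊔ V := by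
    intro l hl
    obtain ⟨l', hl'⟩ := Fin.exists_succAbove_eq (show Fin.cast hc l ≠ Fin.cast hc i from fun e =>
      hl (Fin.cast_injective hc e))
    refine Ideal.mem_sup_left (Ideal.subset_span ⟨l', ?_⟩)
    simp [hl']
  rw [Ideal.span_le]
  rintro _ ⟨l, rfl⟩
  by_cases hl : l = i
  · subst hl
    have h1 : a l * f l = (∑ i', a i' * f i') - ∑ i' ∈ Finset.univ.erase l, a i' * f i' := by
      rw [← Finset.add_sum_erase _ _ (Finset.mem_univ l), add_sub_cancel_right]
    have h2 : a l * f l ∈ Ideal.span (Set.range fun l' =>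
        f (Fin.cast hc.symm ((Fin.cast hc l).succAbove l'))) ⊔ V :=
      h1 ▸ sub_mem (Ideal.mem_sup_right ha) (Ideal.sum_mem _ fun i' hi' =>
        Ideal.mul_mem_left _ _ (hcover i' (Finset.ne_of_mem_erase hi')))
    have h3 := Ideal.mul_mem_left _ (↑u⁻¹ : A) h2
    rwa [← hu, ← mul_assoc, Units.inv_mul, one_mul] at h3
  · exact hcover l hl

/-- An independent family of generators of the maximal ideal has minimal cardinality. -/
theorem card_eq_spanFinrank {A : Type u} [CommRing A] [IsLocalRing A] [IsNoetherianRing A] {c : ℕ}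
    (g : Fin c → A) (hg : Ideal.span (Set.range g) = maximalIdeal A)
    (hind : ∀ a : Fin c → A, ∑ i, a i * g i ∈ maximalIdeal A ^ 2 → ∀ i, a i ∈ maximalIdeal A) :
    (maximalIdeal A).spanFinrank = c := by
  classical
  have hgm : ∀ i, g i ∈ maximalIdeal A := fun i => hg ▸ Ideal.subset_span ⟨i, rfl⟩
  refine le_antisymm ?_ ?_
  · rw [← hg]
    refine (Submodule.spanFinrank_span_le_ncard_of_finite (Set.finite_range g)).trans ?_
    rw [← Set.image_univ]
    exact (Set.ncard_image_le Set.finite_univ).trans (by simp [Set.ncard_univ])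
  · rw [IsLocalRing.spanFinrank_maximalIdeal_eq_finrank_cotangentSpace]
    refine le_of_eq_of_le (Fintype.card_fin c).symm (LinearIndependent.fintype_card_le_finrank
      (b := fun i => ((maximalIdeal A).toCotangent ⟨g i, hgm i⟩ : CotangentSpace A)) ?_)
    rw [Fintype.linearIndependent_iff]
    intro r hr i
    choose a ha using fun i => residue_surjective (r i)
    rw [← ha]
    refine Ideal.Quotient.eq_zero_iff_mem.2 (hind a ?_ i)
    have h1 : (maximalIdeal A).toCotangent (∑ i, a i • ⟨g i, hgm i⟩) = 0 := by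
      rw [map_sum]
      refine Eq.trans (Finset.sum_congr rfl fun i _ => ?_) hr
      rw [map_smul, ← ha]
      rfl
    rw [Ideal.toCotangent_eq_zero, Submodule.coe_sum] at h1
    simpa using h1

/-- Newton iteration at a simple approximate root. -/
theorem exists_newton {L : Type u} [CommRing L] [IsLocalRing L] (G : Polynomial L) (θ₀ : L)
    (h0 : G.eval θ₀ ∈ maximalIdeal L) (hd : IsUnit (G.derivative.eval θ₀)) (N : ℕ) :
    ∃ θ, θ - θ₀ ∈ maximalIdeal L ∧ G.eval θ ∈ maximalIdeal L ^ N := by
  induction N with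
  | zero => exact ⟨θ₀, by simp, by simp⟩
  | succ N ih =>
    rcases N with _ | N
    · exact ⟨θ₀, by simp, by simpa using h0⟩
    obtain ⟨θ, hθ, hG⟩ := ih
    have hu : IsUnit (G.derivative.eval θ) := by
      obtain ⟨c, hc⟩ := Polynomial.sub_dvd_eval_sub θ θ₀ G.derivative
      refine notMem_maximalIdeal.1 fun h => notMem_maximalIdeal.2 hd ?_
      rw [show G.derivative.eval θ₀ = G.derivative.eval θ - (θ - θ₀) * c by rw [← hc]; ring]
      exact sub_mem h (Ideal.mul_mem_right _ _ hθ)
    obtain ⟨u, hu⟩ := hu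
    refine ⟨θ + -(↑u⁻¹ * G.eval θ), ?_, ?_⟩
    · rw [show θ + -(↑u⁻¹ * G.eval θ) - θ₀ = (θ - θ₀) - ↑u⁻¹ * G.eval θ by ring]
      exact sub_mem hθ (Ideal.mul_mem_left _ _ (Ideal.pow_le_self (by omega) hG))
    · obtain ⟨c, hc⟩ := Polynomial.binomExpansion G θ (-(↑u⁻¹ * G.eval θ))
      rw [hc, ← hu, show G.eval θ + ↑u * -(↑u⁻¹ * G.eval θ) + c * (-(↑u⁻¹ * G.eval θ)) ^ 2 =
        c * ↑u⁻¹ ^ 2 * (G.eval θ * G.eval θ) + (1 - ↑u * ↑u⁻¹) * G.eval θ by ring, Units.mul_inv,
        sub_self, zero_mul, add_zero]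
      refine Ideal.mul_mem_left _ _ (Ideal.pow_le_pow_right (show N + 2 ≤ (N + 1) + (N + 1) by omega) ?_)
      rw [pow_add]
      exact Ideal.mul_mem_mul hG hG

end Groth.Calg1.Popescu
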