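import Groth.Agent.Calg1.Popescu.CoefficientModel
import Groth.Agent.Calg1.Popescu.Graded

/-!
A finite algebra over the local ring of a polynomial algebra approximating a finitely generated algebra
mapped into a formally smooth regular local algebra, together with the witnesses for the parameters.
-/

set_option autoImplicit false
set_option linter.style.haveILetI false

universe u

open IsLocalRing MvPolynomial

namespace Groth.Calg1.Popescu

/-- The ideal cutting out the model. -/
noncomputable abbrev modelIdeal {F : Type u} [CommRing F] [IsLocalRing F] (N : ℕ) (Q : Polynomial F) :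
    Ideal (Polynomial F) :=
  (maximalIdeal F ^ N).map Polynomial.C ⊔ Ideal.span {Q}

set_option maxHeartbeats 4000000 in
/-- The witnesses inside a given model. -/
theorem exists_witnesses {k A L F : Type u} [Field k] [CommRing A] [Algebra k A] [CommRing L]
    [IsRegularLocalRing L] [Algebra k L] [CommRing F] [IsLocalRing F] [Algebra k F] (ι : F →ₐ[k] L)
    (φ : A →ₐ[k] L) {s : ℕ} (a : Fin s → A) {n : ℕ} (hn : 0 < n)
    (hna : maximalIdeal L ^ n ≤ Ideal.span (Set.range fun j => φ (a j)))
    {d : ℕ} (e : ℕ) (g : Fin d → F) (hg : Ideal.span (Set.range g) = maximalIdeal F)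
    (hgL : Ideal.span (Set.range fun i => ι (g i)) = maximalIdeal L) (hd : (maximalIdeal L).spanFinrank = d)
    (z : Fin d → L) (hz : Ideal.span (Set.range z) = maximalIdeal L)
    (wf : (Fin n → Fin d) → Fin s → L) (hwf : ∀ f, ∑ j, wf f j * φ (a j) = ∏ t, z (f t))
    (GA : Finset A) (hGA : Algebra.adjoin k (GA : Set A) = ⊤) (θ : L) (Q : Polynomial F)
    (hQi : Irreducible (Q.map (residue F))) (N : ℕ) (hNe : N = d * e + 1 + n)
    (hQθ : Q.eval₂ ι.toRingHom θ ∈ maximalIdeal L ^ N)
    (hWA : ∀ x ∈ GA, ∃ P : Polynomial F, φ x - P.eval₂ ι.toRingHom θ ∈ maximalIdeal L ^ N)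
    (hWz : ∀ l, ∃ P : Polynomial F, z l - P.eval₂ ι.toRingHom θ ∈ maximalIdeal L ^ N)
    (hWw : ∀ f j, ∃ P : Polynomial F, wf f j - P.eval₂ ι.toRingHom θ ∈ maximalIdeal L ^ N) :
    ∃ (γ : A →ₐ[k] Polynomial F ⧸ modelIdeal N Q) (ω : Fin d → Fin s → Polynomial F) (w : Fin d → Fin s → L),
      (∀ (x : A) (P : Polynomial F), Ideal.Quotient.mk _ P = γ x →
        φ x - P.eval₂ ι.toRingHom θ ∈ maximalIdeal L ^ N) ∧
      (∀ i, Ideal.Quotient.mk (modelIdeal N Q) (Polynomial.C (g i)) ^ n =
        ∑ j, Ideal.Quotient.mk _ (ω i j) * γ (a j)) ∧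
      (∀ i, ι (g i) ^ n = ∑ j, w i j * φ (a j)) ∧
      ∀ i j, w i j - (ω i j).eval₂ ι.toRingHom θ ∈ maximalIdeal L ^ (d * e + 1) := by
  classical
  have hq : CAlgX.IsQuasiRegular fun i => ι.toRingHom (g i) :=
    isQuasiRegular_parameters _ hgL hd
  let I : Ideal (Polynomial F) := modelIdeal N Q
  let ev : Polynomial F →ₐ[k] L := Polynomial.aevalTower ι θ
  have hev : ∀ P, ev P = P.eval₂ ι.toRingHom θ := fun P => rfl
  have hkey : ∀ M, (Q.eval₂ ι.toRingHom θ ∈ maximalIdeal L ^ M) → ∀ P, ev P ∈ maximalIdeal L ^ M →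
      P ∈ modelIdeal M Q := fun M hM P hP =>
    mem_of_eval₂_mem_pow _ g hg hgL hq θ Q hQi M hM P hP
  have hIev : ∀ P ∈ I, ev P ∈ maximalIdeal L ^ N := by
    have hle : I ≤ (maximalIdeal L ^ N).comap ev := by
      refine sup_le (Ideal.map_le_iff_le_comap.2 ?_) (Ideal.span_le.2 (Set.singleton_subset_iff.2 hQθ))
      have h1 : (maximalIdeal F).map ι.toRingHom = maximalIdeal L := by
        rw [← hg, Ideal.map_span, ← Set.range_comp]; exact hgL
      intro x hx
      have h2 := Ideal.mem_map_of_mem ι.toRingHom hx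
      rw [Ideal.map_pow, h1] at h2
      rw [Ideal.mem_comap, Ideal.mem_comap]
      show (Polynomial.C x).eval₂ ι.toRingHom θ ∈ _
      rwa [Polynomial.eval₂_C]
    exact fun P hP => hle hP
  let ψ : Polynomial F ⧸ I →ₐ[k] L ⧸ maximalIdeal L ^ N :=
    Ideal.Quotient.liftₐ I ((Ideal.Quotient.mkₐ k _).comp ev) fun x hx =>
      Ideal.Quotient.eq_zero_iff_mem.2 (hIev x hx)
  have hψ : ∀ P, ψ (Ideal.Quotient.mk I P) = Ideal.Quotient.mk _ (ev P) := fun P => rfl
  have hψi : Function.Injective ψ := by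
    rw [injective_iff_map_eq_zero]
    intro x hx
    obtain ⟨P, rfl⟩ := Ideal.Quotient.mk_surjective x
    rw [hψ, Ideal.Quotient.eq_zero_iff_mem] at hx
    exact Ideal.Quotient.eq_zero_iff_mem.2 (hkey N hQθ P hx)
  have hWψ : ∀ x : L, (∃ P : Polynomial F, x - P.eval₂ ι.toRingHom θ ∈ maximalIdeal L ^ N) →
      ∃ P, ψ (Ideal.Quotient.mk I P) = Ideal.Quotient.mk _ x := fun x ⟨P, hP⟩ =>
    ⟨P, (Ideal.Quotient.eq.2 hP).symm⟩
  let φN : A →ₐ[k] L ⧸ maximalIdeal L ^ N := (Ideal.Quotient.mkₐ k _).comp φ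
  have hrange : ∀ x, φN x ∈ ψ.range := by
    intro x
    have hle : (⊤ : Subalgebra k A) ≤ ψ.range.comap φN := by
      rw [← hGA, Algebra.adjoin_le_iff]
      intro x hx
      obtain ⟨P, hP⟩ := hWψ _ (hWA x hx)
      exact ⟨_, hP⟩
    exact hle Algebra.mem_top
  let γ : A →ₐ[k] Polynomial F ⧸ I :=
    (AlgEquiv.ofInjective ψ hψi).symm.toAlgHom.comp (φN.codRestrict ψ.range hrange)
  have hγ : ∀ x, ψ (γ x) = φN x := fun x =>
    congrArg Subtype.val ((AlgEquiv.ofInjective ψ hψi).apply_symm_apply ⟨φN x, hrange x⟩)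
  -- the parameters in terms of the chosen ones
  choose Pz hPz using fun l => hWψ (z l) (hWz l)
  choose Pw hPw using fun f : Fin n → Fin d => fun j : Fin s => hWψ (wf f j) (hWw f j)
  let Gb : Fin d → Polynomial F ⧸ I := fun i => Ideal.Quotient.mk I (Polynomial.C (g i))
  have hc : ∀ l, ∃ c : Fin d → Polynomial F, Ideal.Quotient.mk I (Pz l) = ∑ i, Ideal.Quotient.mk I (c i) * Gb i := by
    intro l
    have hzm : ev (Pz l) ∈ maximalIdeal L ^ 1 := by
      rw [pow_one, ← sub_add_cancel (ev (Pz l)) (z l)]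
      exact add_mem (Ideal.pow_le_self (by omega) (Ideal.Quotient.eq.1 (hPz l))) (hz ▸ Ideal.subset_span ⟨l, rfl⟩)
    obtain ⟨u, hu, v, hv, huv⟩ := Submodule.mem_sup.1 (hkey 1 (Ideal.pow_le_pow_right (by omega) hQθ) _ hzm)
    rw [pow_one, ← hg, Ideal.map_span, ← Set.range_comp] at hu
    obtain ⟨c, hc⟩ := Ideal.mem_span_range_iff_exists_fun.1 hu
    refine ⟨c, ?_⟩
    rw [← huv, ← hc, map_add, show Ideal.Quotient.mk I v = 0 from
      Ideal.Quotient.eq_zero_iff_mem.2 (Ideal.mem_sup_right hv), add_zero, map_sum]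
    exact Finset.sum_congr rfl fun i _ => map_mul _ _ _
  choose c hc using hc
  let Cm : Matrix (Fin d) (Fin d) (Polynomial F) := fun l i => c l i
  have hGz : ∀ i, ∃ Nm : Fin d → L, ∑ l, Nm l * z l = ι (g i) := fun i =>
    Ideal.mem_span_range_iff_exists_fun.1 (by rw [hz]; exact hgL ▸ Ideal.subset_span ⟨i, rfl⟩)
  choose Nm hNm using hGz
  have hdet : ev Cm.det ∉ maximalIdeal L := by
    let Nmat : Matrix (Fin d) (Fin d) L := fun i l => Nm i l
    let CL : Matrix (Fin d) (Fin d) L := Cm.map ev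
    have h1 : ∀ i i', ((Nmat * CL) i i' - (1 : Matrix (Fin d) (Fin d) L) i i') ∈ maximalIdeal L := by
      intro i
      have hsum : ∑ i', ((Nmat * CL) i i' - (1 : Matrix (Fin d) (Fin d) L) i i') * ι (g i') ∈
          maximalIdeal L ^ 2 := by
        have h2 : ∀ l, z l - ∑ i', CL l i' * ι (g i') ∈ maximalIdeal L ^ 2 := by
          intro l
          refine Ideal.pow_le_pow_right (show 2 ≤ N by omega) ?_
          have := (hPz l).symm.trans (congrArg ψ (hc l))
          rw [map_sum] at this
          simp only [map_mul, Gb, hψ] at this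
          rw [← Ideal.Quotient.eq, map_sum]
          refine this.trans (Finset.sum_congr rfl fun i' _ => ?_)
          rw [map_mul, show ev (Polynomial.C (g i')) = ι (g i') from
            Polynomial.eval₂_C _ _]
          rfl
        simp only [sub_mul, Finset.sum_sub_distrib, Matrix.one_apply, ite_mul, one_mul, zero_mul,
          Finset.sum_ite_eq, Finset.mem_univ, if_true, Matrix.mul_apply, Finset.sum_mul]
        rw [Finset.sum_comm, ← hNm i, ← Finset.sum_sub_distrib]
        refine Ideal.sum_mem _ fun l _ => ?_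
        rw [show (∑ i', Nmat i l * CL l i' * ι (g i')) - Nm i l * z l =
          -(Nm i l * (z l - ∑ i', CL l i' * ι (g i'))) by
            rw [mul_sub, Finset.mul_sum, neg_sub]
            simp only [mul_assoc, Nmat]]
        exact neg_mem (Ideal.mul_mem_left _ _ (h2 l))
      intro i'
      let P : MvPolynomial (Fin d) L := ∑ l, C ((Nmat * CL) i l - (1 : Matrix (Fin d) (Fin d) L) i l) * X l
      have hP : P.IsHomogeneous 1 := IsHomogeneous.sum _ _ _ fun l _ => isHomogeneous_C_mul_X _ _
      have hh := hq 1 P hP (by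
        show eval (fun i => ι (g i)) P ∈ Ideal.span (Set.range fun i => ι (g i)) ^ (1 + 1)
        rw [hgL]
        simpa [P] using hsum) (Finsupp.single i' 1)
      replace hh : coeff (Finsupp.single i' 1) P ∈ Ideal.span (Set.range fun i => ι (g i)) := hh
      rw [hgL] at hh
      have hcP : coeff (Finsupp.single i' 1) P =
          (Nmat * CL) i i' - (1 : Matrix (Fin d) (Fin d) L) i i' := by
        simp only [P, coeff_sum, coeff_C_mul, coeff_X', Finsupp.single_eq_single_iff]
        rw [Finset.sum_eq_single i']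
        · simp
        · intro l _ hl; simp [hl]
        · simp
      rwa [hcP] at hh
    intro hmem
    have h2 : (residue L).mapMatrix (Nmat * CL) = 1 := by
      ext i i'
      have := Ideal.Quotient.eq.2 (h1 i i')
      show residue L ((Nmat * CL) i i') = (1 : Matrix (Fin d) (Fin d) (ResidueField L)) i i'
      refine this.trans ?_
      simp only [Matrix.one_apply]
      split_ifs <;> simp <;> rfl
    have h3 := congrArg Matrix.det h2
    rw [← RingHom.map_det, Matrix.det_mul, map_mul, Matrix.det_one,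
      show CL.det = ev Cm.det from (RingHom.map_det ev.toRingHom Cm).symm] at h3
    rw [show residue L (ev Cm.det) = 0 from Ideal.Quotient.eq_zero_iff_mem.2 hmem, mul_zero] at h3
    exact zero_ne_one h3
  have hunit : IsUnit (Ideal.Quotient.mk I Cm.det) := by
    let red : Polynomial F →+* Polynomial (ResidueField F) := Polynomial.mapRingHom (residue F)
    have hker : RingHom.ker red = (maximalIdeal F).map Polynomial.C := by
      rw [Polynomial.ker_mapRingHom, ker_residue]
    have hnd : ¬ Q.map (residue F) ∣ red Cm.det := by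
      rintro ⟨u, hu⟩
      obtain ⟨u, rfl⟩ := Polynomial.map_surjective _ residue_surjective u
      have h1 : Cm.det - Q * u ∈ (maximalIdeal F).map Polynomial.C := by
        rw [← hker, RingHom.mem_ker, map_sub, map_mul, hu, sub_eq_zero]
        rfl
      have h2 : ev (Cm.det - Q * u) ∈ maximalIdeal L := by
        rw [← hg, Ideal.map_span, ← Set.range_comp] at h1
        obtain ⟨b, hb⟩ := Ideal.mem_span_range_iff_exists_fun.1 h1
        rw [← hb, map_sum]
        refine Ideal.sum_mem _ fun i _ => ?_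
        rw [map_mul, show ev ((Polynomial.C ∘ g) i) = ι (g i) from
          Polynomial.eval₂_C _ _]
        exact Ideal.mul_mem_left _ _ (hgL ▸ Ideal.subset_span ⟨i, rfl⟩)
      refine hdet ?_
      rw [← sub_add_cancel Cm.det (Q * u), map_add, map_mul]
      exact add_mem h2 (Ideal.mul_mem_right _ _ (Ideal.pow_le_self (by omega) hQθ))
    obtain ⟨u, v, huv⟩ := (hQi.coprime_iff_not_dvd).2 hnd
    obtain ⟨u, rfl⟩ := Polynomial.map_surjective _ residue_surjective u
    obtain ⟨v, rfl⟩ := Polynomial.map_surjective _ residue_surjective v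
    have h1 : u * Q + v * Cm.det - 1 ∈ (maximalIdeal F).map Polynomial.C := by
      rw [← hker, RingHom.mem_ker, map_sub, map_add, map_mul, map_mul, map_one, sub_eq_zero]
      exact huv
    have h2 : IsNilpotent (Ideal.Quotient.mk I (u * Q + v * Cm.det - 1)) := ⟨N, by
      rw [← map_pow, Ideal.Quotient.eq_zero_iff_mem]
      refine Ideal.mem_sup_left ?_
      rw [Ideal.map_pow]
      exact Ideal.pow_mem_pow h1 N⟩
    have h3 : Ideal.Quotient.mk I (u * Q + v * Cm.det - 1) + 1 = Ideal.Quotient.mk I v * Ideal.Quotient.mk I Cm.det := by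
      rw [map_sub, map_add, map_mul, map_mul, map_one, sub_add_cancel,
        show Ideal.Quotient.mk I Q = 0 from Ideal.Quotient.eq_zero_iff_mem.2
          (Ideal.mem_sup_right (Ideal.mem_span_singleton_self Q)), mul_zero, zero_add]
    exact isUnit_of_mul_isUnit_right (h3 ▸ h2.isUnit_add_one)
  let Cb : Matrix (Fin d) (Fin d) (Polynomial F ⧸ I) := (Ideal.Quotient.mk I).mapMatrix Cm
  have hGinv : ∀ i, Gb i = ∑ l, Cb⁻¹ i l * Ideal.Quotient.mk I (Pz l) := by
    have hu' : IsUnit Cb.det := by rw [← RingHom.map_det]; exact hunit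
    have h1 : (fun l => Ideal.Quotient.mk I (Pz l)) = Matrix.mulVec Cb Gb := funext fun l => hc l
    intro i
    calc Gb i = Matrix.mulVec (Cb⁻¹ * Cb) Gb i := by rw [Matrix.nonsing_inv_mul _ hu', Matrix.one_mulVec]
      _ = _ := by rw [← Matrix.mulVec_mulVec, ← h1]; rfl
  have hzprod : ∀ f : Fin n → Fin d, ∏ t, Ideal.Quotient.mk I (Pz (f t)) =
      ∑ j, Ideal.Quotient.mk I (Pw f j) * γ (a j) := fun f => hψi (by
    simp only [map_prod, map_sum, map_mul, hPz, hPw, hγ]
    rw [← map_prod, ← hwf f, map_sum]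
    exact Finset.sum_congr rfl fun j _ => map_mul _ _ _)
  have hω : ∀ i, ∃ ω : Fin s → Polynomial F, Gb i ^ n = ∑ j, Ideal.Quotient.mk I (ω j) * γ (a j) := by
    intro i
    choose ω hω using fun j => Ideal.Quotient.mk_surjective (I := I)
      (∑ f : Fin n → Fin d, (∏ t, Cb⁻¹ i (f t)) * Ideal.Quotient.mk I (Pw f j))
    refine ⟨ω, ?_⟩
    simp only [hω, Finset.sum_mul]
    rw [Finset.sum_comm, ← Fin.prod_const n (Gb i), hGinv i, Fintype.prod_sum]
    refine Finset.sum_congr rfl fun f _ => ?_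
    rw [Finset.prod_mul_distrib, hzprod, Finset.mul_sum]
    exact Finset.sum_congr rfl fun j _ => by ring
  choose ω hω using hω
  have hP : ∀ (x : A) (P : Polynomial F), Ideal.Quotient.mk I P = γ x → φ x - ev P ∈ maximalIdeal L ^ N := by
    intro x P hP
    have h := hγ x
    rw [← hP, hψ] at h
    exact Ideal.Quotient.eq.1 h.symm
  have herr : ∀ i, ∃ ε : Fin s → L, (∀ j, ε j ∈ maximalIdeal L ^ (d * e + 1)) ∧
      ι (g i) ^ n - ∑ j, ev (ω i j) * φ (a j) = ∑ j, ε j * φ (a j) := by
    intro i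
    have h1 : ι (g i) ^ n - ∑ j, ev (ω i j) * φ (a j) ∈ maximalIdeal L ^ N := by
      rw [← Ideal.Quotient.eq, map_pow, map_sum]
      have := congrArg ψ (hω i)
      rw [map_pow, map_sum] at this
      simp only [Gb, hψ, map_mul, hγ] at this
      rw [show ev (Polynomial.C (g i)) = ι (g i) from Polynomial.eval₂_C _ _] at this
      refine this.trans (Finset.sum_congr rfl fun j _ => ?_)
      exact (map_mul _ _ _).symm
    have h2 : ι (g i) ^ n - ∑ j, ev (ω i j) * φ (a j) ∈
        maximalIdeal L ^ (d * e + 1) • Submodule.span L (Set.range fun j => φ (a j)) := by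
      rw [smul_eq_mul]
      refine (?_ : maximalIdeal L ^ N ≤ _) h1
      rw [hNe, pow_add]
      exact Ideal.mul_mono_right hna
    obtain ⟨b, hb, hbe⟩ := (Submodule.mem_ideal_smul_span_iff_exists_sum _ _ _).1 h2
    refine ⟨fun j => b j, hb, ?_⟩
    rw [← hbe, Finsupp.sum_fintype]
    · rfl
    · intro j
      exact zero_smul L _
  choose ε hε hεe using herr
  refine ⟨γ, ω, fun i j => ev (ω i j) + ε i j, fun x P h => hP x P h, fun i => hω i, fun i => ?_, fun i j => ?_⟩
  · rw [Finset.sum_congr rfl fun j _ => add_mul _ _ _, Finset.sum_add_distrib, ← hεe i]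
    ring
  · show ev (ω i j) + ε i j - ev (ω i j) ∈ _
    rw [add_sub_cancel_left]
    exact hε i j

set_option maxHeartbeats 4000000 in
theorem exists_model_algebra {k A L : Type u} [Field k] (p : ℕ) [Fact p.Prime] [CharP k p] [CommRing A]
    [Algebra k A] [Algebra.FiniteType k A] [CommRing L] [IsRegularLocalRing L] [Algebra k L]
    (hL : CAlgX.IsAdicFormallySmooth k L (maximalIdeal L)) (Sg : Subalgebra k L)
    (hSg : ∀ x : L, ∃ a ∈ Sg, ∃ t ∈ Sg, IsUnit t ∧ x * t = a) (φ : A →ₐ[k] L) {s : ℕ} (a : Fin s → A)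
    {n : ℕ} (hn : 0 < n) (hna : maximalIdeal L ^ n ≤ Ideal.span (Set.range fun j => φ (a j)))
    {d : ℕ} (hd : (maximalIdeal L).spanFinrank = d) (e : ℕ) :
    ∃ (n0 : ℕ) (y : Fin n0 → L), (∀ i, y i ∈ Sg) ∧ ∃ G : Fin d → MvPolynomial (Fin n0) k,
      Ideal.span (Set.range fun i => aeval y (G i)) = maximalIdeal L ∧
      Ideal.span (Set.range fun i => algebraMap _ (Localization.AtPrime (relPrime k y)) (G i)) =
        maximalIdeal (Localization.AtPrime (relPrime k y)) ∧
      ∃ (θ : L) (Q : Polynomial (Localization.AtPrime (relPrime k y))), Q.Monic ∧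
        (Q.map (residue (Localization.AtPrime (relPrime k y)))).Separable ∧
        Q.eval₂ (locHom y).toRingHom θ ∈ maximalIdeal L ^ (d * e + 1 + n) ∧
        ∃ (γ : A →ₐ[k] Polynomial (Localization.AtPrime (relPrime k y)) ⧸ modelIdeal (d * e + 1 + n) Q)
          (ω : Fin d → Fin s → Polynomial (Localization.AtPrime (relPrime k y))) (w : Fin d → Fin s → L),
          (∀ (x : A) (P : Polynomial (Localization.AtPrime (relPrime k y))), Ideal.Quotient.mk _ P = γ x →
            φ x - P.eval₂ (locHom y).toRingHom θ ∈ maximalIdeal L ^ (d * e + 1 + n)) ∧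
          (∀ i, Ideal.Quotient.mk (modelIdeal (d * e + 1 + n) Q) (Polynomial.C (algebraMap _ _ (G i))) ^ n =
            ∑ j, Ideal.Quotient.mk _ (ω i j) * γ (a j)) ∧
          (∀ i, aeval y (G i) ^ n = ∑ j, w i j * φ (a j)) ∧
          ∀ i j, w i j - (ω i j).eval₂ (locHom y).toRingHom θ ∈ maximalIdeal L ^ (d * e + 1) := by
  classical
  let N := d * e + 1 + n
  obtain ⟨T, hTcard, hTspan⟩ := (IsNoetherian.noetherian (maximalIdeal L)).exists_span_finset_card_eq_spanFinrank
  let eT : Fin d ≃ T := (T.equivFinOfCardEq (hTcard.trans hd)).symm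
  let z : Fin d → L := fun l => (eT l : L)
  have hz : Ideal.span (Set.range z) = maximalIdeal L := by
    rw [show Set.range z = (T : Set L) from (eT.surjective.range_comp Subtype.val).trans Subtype.range_coe]
    exact hTspan
  have hprod : ∀ f : Fin n → Fin d, ∏ t, z (f t) ∈ Ideal.span (Set.range fun j => φ (a j)) := fun f => hna (by
    have h := Ideal.prod_mem_prod (s := Finset.univ) (I := fun _ : Fin n => maximalIdeal L)
      (x := fun t => z (f t)) fun t _ => hz ▸ Ideal.subset_span ⟨f t, rfl⟩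
    rwa [Finset.prod_const, Finset.card_univ, Fintype.card_fin] at h)
  choose wf hwf using fun f => Ideal.mem_span_range_iff_exists_fun.1 (hprod f)
  obtain ⟨GA, hGA⟩ : ∃ GA : Finset A, Algebra.adjoin k (GA : Set A) = ⊤ := Algebra.FiniteType.out
  let W : Finset L := GA.image φ ∪ Finset.univ.image z ∪
    Finset.univ.image fun q : (Fin n → Fin d) × Fin s => wf q.1 q.2
  obtain ⟨n0, y, hy, G, hG, hGloc, θ, Q, hQm, hQi, hQs, hQθ, hW⟩ :=
    exists_model p hL Sg hSg hd W N (by omega)
  have hgy : ∀ i, locHom (k := k) y (algebraMap _ _ (G i)) = aeval y (G i) := fun i =>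
    locHom_algebraMap y (G i)
  obtain ⟨γ, ω, w, h1, h2, h3, h4⟩ := exists_witnesses (locHom y) φ a hn hna e
    (fun i => algebraMap _ (Localization.AtPrime (relPrime k y)) (G i)) hGloc
    ((congrArg (fun f => Ideal.span (Set.range f)) (funext hgy)).trans hG) hd z hz wf hwf GA hGA θ Q hQi N rfl
    hQθ (fun x hx => hW _ (Finset.mem_union_left _ (Finset.mem_union_left _ (Finset.mem_image_of_mem φ hx))))
    (fun l => hW _ (Finset.mem_union_left _ (Finset.mem_union_right _ (Finset.mem_image_of_mem z (Finset.mem_univ l)))))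
    (fun f j => hW _ (Finset.mem_union_right _ (Finset.mem_image.2 ⟨(f, j), Finset.mem_univ _, rfl⟩)))
  exact ⟨n0, y, hy, G, hG, hGloc, θ, Q, hQm, hQs, hQθ, γ, ω, w, h1, h2,
    fun i => hgy i ▸ h3 i, h4⟩

end Groth.Calg1.Popescu
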