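import Groth.Agent.Calg1.Popescu.GenericFibre
import Groth.Agent.Calg4.RegularHom
import Groth.Agent.S2022
import Groth.Agent.S2029
import Groth.Agent.S19959
import Mathlib.RingTheory.Flat.TorsionFree

/-!
Regular maps of Noetherian rings are ind-smooth (Popescu).
-/

set_option autoImplicit false
set_option linter.style.haveILetI false

universe u

open Smoothing Groth.NeronArea
open scoped TensorProduct

namespace Groth.Calg1.Popescu

theorem singularIdeal_eq_top_of_smooth {R A : Type u} [CommRing R] [CommRing A] [Algebra R A]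
    [Algebra.Smooth R A] : singularIdeal R A = ⊤ := by
  rw [Ideal.eq_top_iff_one, SmoothAtBasics.mem_singularIdeal_iff]
  intro Q hQ _
  have h : Algebra.smoothLocus R A = Set.univ := Algebra.smoothLocus_eq_univ_iff.2 inferInstance
  exact (h ▸ Set.mem_univ (⟨Q, hQ⟩ : PrimeSpectrum A) :
    (⟨Q, hQ⟩ : PrimeSpectrum A) ∈ Algebra.smoothLocus R A)

theorem finitePresentation_of_markedPresentation {R A : Type u} [CommRing R] [CommRing A] [Algebra R A]
    (P : MarkedPresentation R A) : Algebra.FinitePresentation R A :=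
  Algebra.FinitePresentation.of_surjective (f := P.hom) P.surj (by
    show (RingHom.ker P.hom.toRingHom).FG
    rw [P.ker_eq]
    exact Submodule.fg_span (Set.finite_range _))

set_option maxHeartbeats 2000000 in
/-- The reduced step: a nonzerodivisor becomes standard, and the problem is solved modulo its eighth power. -/
theorem factor_of_quotients {R Λ A : Type u} [CommRing R] [IsNoetherianRing R] [IsReduced R] [CommRing Λ]
    [IsNoetherianRing Λ] [Algebra R Λ] (hreg : CAlg.IsRegularHom R Λ)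
    (hquot : ∀ J : Ideal R, J ≠ ⊥ → IndSmooth (R ⧸ J) (Λ ⧸ J.map (algebraMap R Λ)))
    [CommRing A] [Algebra R A] [Algebra.FinitePresentation R A] (f : A →ₐ[R] Λ) :
    ∃ (B : Type u) (_ : CommRing B) (_ : Algebra R B), Algebra.Smooth R B ∧
      ∃ (g : A →ₐ[R] B) (h : B →ₐ[R] Λ), h.comp g = f := by
  rcases subsingleton_or_nontrivial R with hR0 | hR0
  · have : Subsingleton Λ := (algebraMap R Λ).codomain_trivial
    obtain ⟨B', _, _, hB', g', h', e⟩ := exists_smooth_of_singular_top (AlgHom.id R A) f (Subsingleton.elim _ _)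
    exact ⟨B', inferInstance, inferInstance, hB', g', h', e.trans (AlgHom.comp_id f)⟩
  have := hreg.1
  obtain ⟨B', _, _, hB', g0, h0, hgh0⟩ := indSmooth_generic hreg (FractionRing R ⊗[R] A) inferInstance
    (Algebra.TensorProduct.map (AlgHom.id (FractionRing R) (FractionRing R)) f)
  obtain ⟨B, _, _, α, β, hαβ, π, hπS, hπel⟩ := Groth.Agent.S2029.result f (nonZeroDivisors R) g0 h0 hgh0
  have hBfp : Algebra.FinitePresentation R B := by
    obtain ⟨P, -, -⟩ := id hπel
    exact finitePresentation_of_markedPresentation P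
  have hπ0 : π ≠ 0 := nonZeroDivisors.ne_zero hπS
  let J : Ideal R := Ideal.span {π ^ 8}
  have hJ : J ≠ ⊥ := by
    intro h
    exact nonZeroDivisors.ne_zero (pow_mem hπS 8) (Ideal.span_singleton_eq_bot.1 h)
  have hmap : J.map (algebraMap R Λ) = Ideal.span {algebraMap R Λ (π ^ 8)} := by
    rw [Ideal.map_span, Set.image_singleton]
  -- the problem modulo `π ^ 8`
  let mkΛ : Λ →ₐ[R] Λ ⧸ J.map (algebraMap R Λ) := Ideal.Quotient.mkₐ R _
  let φ' : (R ⧸ J) ⊗[R] B →ₐ[R ⧸ J] Λ ⧸ J.map (algebraMap R Λ) :=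
    Algebra.TensorProduct.lift (Algebra.ofId _ _) (mkΛ.comp β) fun _ _ => Commute.all _ _
  obtain ⟨C, _, _, hC, gC, hCΛ, hgC⟩ := hquot J hJ ((R ⧸ J) ⊗[R] B) inferInstance φ'
  have := hC.finitePresentation
  letI : Algebra R C := ((algebraMap (R ⧸ J) C).comp (Ideal.Quotient.mk J)).toAlgebra
  have : IsScalarTower R (R ⧸ J) C := IsScalarTower.of_algebraMap_eq' rfl
  let γ : B →ₐ[R] C := (gC.restrictScalars R).comp Algebra.TensorProduct.includeRight
  let g : C →ₐ[R] Λ ⧸ Ideal.span {algebraMap R Λ (π ^ 8)} :=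
    (Ideal.quotientEquivAlgOfEq R hmap).toAlgHom.comp (hCΛ.restrictScalars R)
  have hfac : ∀ b : B, g (γ b) = Ideal.Quotient.mk _ (β b) := fun b => by
    show Ideal.quotientEquivAlgOfEq R hmap (hCΛ (gC (1 ⊗ₜ b))) = _
    rw [show hCΛ (gC (1 ⊗ₜ b)) = φ' (1 ⊗ₜ b) from AlgHom.congr_fun hgC _]
    show Ideal.quotientEquivAlgOfEq R hmap (Algebra.TensorProduct.lift _ _ _ (1 ⊗ₜ b)) = _
    rw [Algebra.TensorProduct.lift_tmul, map_one, one_mul]
    rfl
  obtain ⟨B2, _, _, hB2, α2, β2, hαβ2, hsm2, hle⟩ := Groth.Agent.S19959.result π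
    (fun r hr => by
      have h2 : r * π ^ 2 = 0 := by rw [mul_comm]; exact hr
      rw [(mem_nonZeroDivisors_iff_right.1 (pow_mem hπS 2)) r h2, mul_zero])
    (fun x hx => by
      have hreg' := Module.Flat.isSMulRegular_of_nonZeroDivisors (M := Λ) (pow_mem hπS 2)
      rw [hreg'.right_eq_zero_of_smul hx, smul_zero])
    β (Singular.isStrictlyStandard_of_elementary hπel) γ g hfac
  have hπsing : algebraMap R B2 π ∈ singularIdeal R B2 :=
    SmoothAtBasics.mem_singularIdeal_iff.2 fun Q _ h => hsm2 Q h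
  have htop : ((singularIdeal R B2).map β2).radical = ⊤ := by
    have h1 : (1 : C) ∈ singularIdeal (R ⧸ J) C := by rw [singularIdeal_eq_top_of_smooth]; trivial
    have h2 := hle (Ideal.mem_map_of_mem g h1)
    rw [map_one, Ideal.mem_map_iff_of_surjective _ Ideal.Quotient.mk_surjective] at h2
    obtain ⟨x, hx, hx1⟩ := h2
    rw [← map_one (Ideal.Quotient.mk (Ideal.span {algebraMap R Λ (π ^ 8)})), Ideal.Quotient.eq,
      Ideal.mem_span_singleton'] at hx1
    obtain ⟨c, hc⟩ := hx1
    rw [Ideal.eq_top_iff_one, show (1 : Λ) = x - c * algebraMap R Λ (π ^ 8) by rw [hc]; ring]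
    refine sub_mem hx (Ideal.mul_mem_left _ _ (Ideal.le_radical ?_))
    rw [← β2.commutes, map_pow]
    exact Ideal.mem_map_of_mem _ (Ideal.pow_mem_of_mem _ hπsing 8 (by norm_num))
  obtain ⟨B3, _, _, hB3, g3, h3, e3⟩ := exists_smooth_of_singular_top α2 β2 (Ideal.radical_eq_top.1 htop)
  refine ⟨B3, inferInstance, inferInstance, hB3, g3.comp α, h3, ?_⟩
  rw [← AlgHom.comp_assoc, e3, hαβ2, hαβ]

set_option maxHeartbeats 1000000 in
theorem indSmooth_aux {R : Type u} [CommRing R] [IsNoetherianRing R] (I : Ideal R) :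
    ∀ (R' : Type u) [CommRing R'] (q : R →+* R'), Function.Surjective q → RingHom.ker q = I →
      ∀ (Λ : Type u) [CommRing Λ] [IsNoetherianRing Λ] [Algebra R' Λ],
        CAlg.IsRegularHom R' Λ → IndSmooth R' Λ := by
  induction I using IsNoetherian.induction with
  | _ I ih =>
    intro R' _ q hq hker Λ _ _ _ hreg
    have : IsNoetherianRing R' := isNoetherianRing_of_surjective R R' q hq
    have hquot : ∀ J : Ideal R', J ≠ ⊥ → IndSmooth (R' ⧸ J) (Λ ⧸ J.map (algebraMap R' Λ)) := by
      intro J hJ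
      have hlt : I < RingHom.ker ((Ideal.Quotient.mk J).comp q) := by
        rw [← RingHom.comap_ker, Ideal.mk_ker, ← hker]
        refine lt_of_le_of_ne (Ideal.comap_mono bot_le) fun h => hJ ?_
        rw [← Ideal.map_comap_of_surjective q hq J, ← h]
        exact Ideal.map_eq_bot_iff_le_ker q |>.2 le_rfl
      refine ih _ hlt (R' ⧸ J) ((Ideal.Quotient.mk J).comp q) (Ideal.Quotient.mk_surjective.comp hq) rfl
        (Λ ⧸ J.map (algebraMap R' Λ)) ?_
      exact Groth.Calg4.IsRegularHom.of_algEquiv (Algebra.TensorProduct.quotIdealMapEquivQuotTensor Λ J).symm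
        (Groth.Calg4.IsRegularHom.baseChange hreg (R' ⧸ J))
    have := hreg.1
    by_cases hN : nilradical R' = ⊥
    · have : IsReduced R' := nilradical_eq_bot_iff.1 hN
      intro A _ _ hA f
      exact factor_of_quotients hreg hquot f
    · exact Groth.Agent.S2022.result (nilradical R') (IsNoetherianRing.isNilpotent_nilradical R') (hquot _ hN)

/-- Regular maps of Noetherian rings are ind-smooth. -/
theorem indSmooth_of_regularHom {R Λ : Type u} [CommRing R] [IsNoetherianRing R] [CommRing Λ]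
    [IsNoetherianRing Λ] [Algebra R Λ] (hreg : CAlg.IsRegularHom R Λ) : IndSmooth R Λ :=
  indSmooth_aux ⊥ R (RingHom.id R) Function.surjective_id (RingHom.ker_eq_bot_iff_eq_zero (RingHom.id R) |>.2 fun _ h => h) Λ hreg

end Groth.Calg1.Popescu
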