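import Groth.Agent.NeronArea.Delocalize
import Groth.Agent.NeronArea.StandardBaseChange

/-!
Resolving a local problem from a smooth factorization at a prime with nilpotent local maximal ideal;
base change of the singular ideal.
-/

set_option autoImplicit false
set_option linter.style.haveILetI false

universe u

open Smoothing
open scoped TensorProduct

namespace Groth.Calg1.Popescu

open Groth.NeronArea

/-- A smooth factorization over a localization of the base resolves the problem at a prime whose local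
maximal ideal consists of nilpotents. -/
theorem resolvable_of_smooth_factor {R A Λ RS B'' Λq : Type u} [CommRing R] [IsNoetherianRing R]
    [CommRing A] [Algebra R A] [Algebra.FinitePresentation R A] [CommRing Λ] [Algebra R Λ] (φ : A →ₐ[R] Λ)
    (𝔮 : Ideal Λ) [𝔮.IsPrime] [CommRing Λq] [Algebra Λ Λq] [IsLocalization.AtPrime Λq 𝔮] [Algebra R Λq]
    [IsScalarTower R Λ Λq] (hnil : ∀ x ∈ 𝔮, IsNilpotent (algebraMap Λ Λq x)) (S : Submonoid R)
    (hS : ∀ s ∈ S, algebraMap R Λ s ∉ 𝔮) [CommRing RS] [Algebra R RS] [IsLocalization S RS] [CommRing B'']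
    [Algebra R B''] [Algebra RS B''] [IsScalarTower R RS B''] [Algebra.FinitePresentation RS B'']
    [Algebra.FormallySmooth R B''] (g'' : A →ₐ[R] B'') (h'' : B'' →ₐ[R] Λq)
    (hgh : ∀ a, h'' (g'' a) = algebraMap Λ Λq (φ a)) : Resolvable R φ 𝔮 := by
  classical
  by_cases hle : singRad R φ ≤ 𝔮
  swap
  · exact ⟨A, inferInstance, inferInstance, inferInstance, AlgHom.id _ _, φ, AlgHom.comp_id _, le_rfl, hle⟩
  have : IsNoetherianRing A := Algebra.FiniteType.isNoetherianRing R A
  obtain ⟨r, a, ha⟩ := Submodule.fg_iff_exists_fin_generating_family.1 (IsNoetherian.noetherian (singularIdeal R A))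
  have haS : ∀ i, a i ∈ singularIdeal R A := fun i =>
    (SetLike.ext_iff.1 ha _).1 (Submodule.subset_span ⟨i, rfl⟩)
  have hν : ∀ i, ∃ (N : ℕ) (ν : 𝔮.primeCompl), (ν : Λ) * φ (a i) ^ N = 0 := by
    intro i
    obtain ⟨N, hN⟩ := hnil (φ (a i)) (hle (Ideal.le_radical (Ideal.mem_map_of_mem _ (haS i))))
    rw [← map_pow] at hN
    exact ⟨N, (IsLocalization.map_eq_zero_iff 𝔮.primeCompl Λq _).1 hN⟩
  choose N ν hν using hν
  obtain ⟨B, _, _, hB, α, β, hαβ, h𝔮, hle'⟩ := Delocalize.exists_glue φ 𝔮 S hS (RS := RS) g'' h'' hgh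
    (fun i => a i ^ (N i + 1)) (fun i => Ideal.pow_mem_of_mem _ (haS i) _ (Nat.succ_pos _)) (∏ i, (ν i : Λ))
    (fun h => by
      obtain ⟨i, -, hi⟩ := (Ideal.IsPrime.prod_mem_iff (p := 𝔮)).1 h
      exact (ν i).2 hi)
    (fun i => by
      obtain ⟨d, hd⟩ : (ν i : Λ) ∣ ∏ j, (ν j : Λ) := Finset.dvd_prod_of_mem _ (Finset.mem_univ i)
      rw [hd, map_pow, pow_succ]
      linear_combination d * φ (a i) * hν i)
  refine ⟨B, inferInstance, inferInstance, hB, α, β, hαβ, ?_, fun h => h𝔮 (Ideal.le_radical.trans h)⟩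
  refine (Ideal.radical_isRadical _).radical_le_iff.2 ?_
  rw [← ha, Ideal.submodule_span_eq, Ideal.map_span, Ideal.span_le]
  rintro _ ⟨_, ⟨i, rfl⟩, rfl⟩
  exact ⟨N i + 1, by rw [← map_pow]; exact hle' i⟩

/-- The singular ideal maps into that of a base change. -/
theorem tmul_mem_singularIdeal {R R' A : Type u} [CommRing R] [CommRing R'] [Algebra R R'] [CommRing A]
    [Algebra R A] [Algebra.FinitePresentation R A] {a : A} (ha : a ∈ singularIdeal R A) :
    (1 : R') ⊗ₜ[R] a ∈ singularIdeal R' (R' ⊗[R] A) := by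
  let T := R' ⊗[R] A
  let incl : A →ₐ[R] T := Algebra.TensorProduct.includeRight
  let L := Localization.Away a
  have : Algebra.FormallySmooth R L := (SmoothAtBasics.mem_singularIdeal_iff_smooth.1 ha).formallySmooth
  rw [SmoothAtBasics.mem_singularIdeal_iff]
  intro Q hQ haQ
  let TQ := Localization.AtPrime Q
  have hu : IsUnit (algebraMap T TQ (incl a)) :=
    IsLocalization.map_units TQ (⟨incl a, haQ⟩ : Q.primeCompl)
  let toTQ : A →ₐ[R] TQ := (IsScalarTower.toAlgHom R T TQ).comp incl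
  let ι : L →ₐ[R] TQ := IsLocalization.liftAlgHom (S := L) (M := Submonoid.powers a) (f := toTQ) fun y => by
    obtain ⟨e, he⟩ := y.2
    rw [← he, map_pow]; exact hu.pow e
  refine Algebra.FormallySmooth.of_comp_surjective fun W _ _ I hI F => ?_
  letI : Algebra R W := ((algebraMap R' W).comp (algebraMap R R')).toAlgebra
  have : IsScalarTower R R' W := IsScalarTower.of_algebraMap_eq' rfl
  obtain ⟨l, hl⟩ := Algebra.FormallySmooth.exists_lift (R := R) (A := L) I ⟨2, hI⟩ ((F.restrictScalars R).comp ι)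
  let lA : A →ₐ[R] W := l.comp (IsScalarTower.toAlgHom R A L)
  let m : T →ₐ[R'] W := Algebra.TensorProduct.lift (Algebra.ofId R' W) lA fun _ _ => Commute.all _ _
  have hm : (Ideal.Quotient.mkₐ R' I).comp m = F.comp (IsScalarTower.toAlgHom R' T TQ) := by
    refine Algebra.TensorProduct.ext (Subsingleton.elim _ _) (AlgHom.ext fun x => ?_)
    show Ideal.Quotient.mk I (m (1 ⊗ₜ x)) = F (algebraMap T TQ (1 ⊗ₜ x))
    rw [show m (1 ⊗ₜ x) = lA x by
      show Algebra.TensorProduct.lift _ _ _ (1 ⊗ₜ x) = _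
      rw [Algebra.TensorProduct.lift_tmul, map_one, one_mul]]
    exact (AlgHom.congr_fun hl (algebraMap A L x)).trans (congrArg F (IsLocalization.lift_eq _ x))
  let mQ : TQ →ₐ[R'] W := IsLocalization.liftAlgHom (S := TQ) (M := Q.primeCompl) (f := m) fun x => by
    refine (IsNilpotent.isUnit_quotient_mk_iff ⟨2, hI⟩).1 ?_
    rw [show Ideal.Quotient.mk I (m x) = F (algebraMap T TQ x) from AlgHom.congr_fun hm x]
    exact (IsLocalization.map_units TQ x).map F
  refine ⟨mQ, IsLocalization.algHom_ext Q.primeCompl (AlgHom.ext fun x => ?_)⟩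
  show Ideal.Quotient.mk I (mQ (algebraMap T TQ x)) = _
  rw [show mQ (algebraMap T TQ x) = m x from IsLocalization.lift_eq _ _]
  exact AlgHom.congr_fun hm x

end Groth.Calg1.Popescu
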