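import Mathlib.RingTheory.AdjoinRoot
import Mathlib.RingTheory.Smooth.Basic
import Mathlib.RingTheory.FinitePresentation

/-!
Adjoining a root with invertible derivative gives a formally smooth algebra.
-/

set_option autoImplicit false
set_option linter.style.haveILetI false

universe u

namespace Groth.Calg1.Popescu

theorem formallySmooth_adjoinRoot {S : Type u} [CommRing S] (f : Polynomial S)
    (hf : IsUnit (AdjoinRoot.mk f (Polynomial.derivative f))) :
    Algebra.FormallySmooth S (AdjoinRoot f) := by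
  refine Algebra.FormallySmooth.of_comp_surjective fun W _ _ I hI F => ?_
  obtain ⟨θ, hθ⟩ := Ideal.Quotient.mk_surjective (F (AdjoinRoot.root f))
  have hmk : ∀ P : Polynomial S, Ideal.Quotient.mk I (Polynomial.aeval θ P) = F (AdjoinRoot.mk f P) := fun P => by
    rw [← AdjoinRoot.aeval_eq, ← Polynomial.aeval_algHom_apply F, ← hθ]
    exact (Polynomial.aeval_algHom_apply (Ideal.Quotient.mkₐ S I) θ P).symm
  have hfI : Polynomial.aeval θ f ∈ I := by
    rw [← Ideal.Quotient.eq_zero_iff_mem, hmk, AdjoinRoot.mk_self, map_zero]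
  have hu : IsUnit (Polynomial.aeval θ (Polynomial.derivative f)) :=
    (IsNilpotent.isUnit_quotient_mk_iff ⟨2, hI⟩).1 (by rw [hmk]; exact hf.map F)
  obtain ⟨v, hv⟩ := hu
  have hc : -(↑v⁻¹ * Polynomial.aeval θ f) ∈ I := neg_mem (Ideal.mul_mem_left _ _ hfI)
  obtain ⟨c, hcexp⟩ := Polynomial.binomExpansion (f.map (algebraMap S W)) θ (-(↑v⁻¹ * Polynomial.aeval θ f))
  have hroot : Polynomial.aeval (θ + -(↑v⁻¹ * Polynomial.aeval θ f)) f = 0 := by
    have hsq : (-(↑v⁻¹ * Polynomial.aeval θ f)) ^ 2 = 0 := by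
      have h := Ideal.pow_mem_pow hc 2
      rwa [hI] at h
    simp only [Polynomial.derivative_map, Polynomial.eval_map_algebraMap, hsq, mul_zero, add_zero] at hcexp
    rw [hcexp, ← hv]
    linear_combination (-(Polynomial.aeval θ f)) * Units.mul_inv v
  refine ⟨AdjoinRoot.liftAlgHom f (Algebra.ofId S W) (θ + -(↑v⁻¹ * Polynomial.aeval θ f))
    (by rw [Polynomial.aeval_def] at hroot; exact hroot), ?_⟩
  refine AdjoinRoot.algHom_ext ?_
  rw [AlgHom.comp_apply]
  erw [AdjoinRoot.liftAlgHom_root]
  show Ideal.Quotient.mk I _ = _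
  rw [map_add, Ideal.Quotient.eq_zero_iff_mem.2 hc, add_zero]
  exact hθ

theorem finitePresentation_adjoinRoot {S : Type u} [CommRing S] (f : Polynomial S) :
    Algebra.FinitePresentation S (AdjoinRoot f) :=
  Algebra.FinitePresentation.quotient (Submodule.fg_span_singleton f)

end Groth.Calg1.Popescu
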