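import Groth.Agent.Calg1.Popescu.ModelAlgebra
import Groth.Agent.Calg1.Popescu.Exponents
import Groth.Agent.Calg1.Popescu.ReducedProblem
import Groth.Agent.Calg1.Popescu.CoverZeta
import Groth.Agent.Calg1.Popescu.StandardRoot
import Groth.Agent.NeronArea.FreeKaehlerRetract
import Groth.Agent.NeronArea.StableFreeStandard
import Groth.Agent.NeronArea.ResolvableModPow
import Groth.Agent.Calg4.GeomRegularLocal
import Groth.Agent.S2036

/-!
Resolving a local problem over a field of positive characteristic at a geometrically regular point.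

The parameters are pulled back to a polynomial algebra mapped to the ambient ring; multiplying them by
powers of one auxiliary element makes the annihilator conditions hold globally.
-/

set_option autoImplicit false
set_option linter.style.haveILetI false

universe u

open IsLocalRing Smoothing Groth.NeronArea
open scoped TensorProduct

namespace Groth.Calg1.Popescu

theorem isRegularLocalRing_of_geometricallyRegular {k L : Type u} [Field k] [CommRing L] [IsLocalRing L]
    [IsNoetherianRing L] [Algebra k L] (h : CAlg.IsGeometricallyRegular k L) : IsRegularLocalRing L := by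
  have : IsRegularRing (k ⊗[k] L) := h k inferInstance
  have : IsRegularRing L := IsRegularRing.of_ringEquiv (Algebra.TensorProduct.lid k L).toRingEquiv
  exact IsRegularLocalRing.of_ringEquiv (R := Localization.AtPrime (maximalIdeal L))
    (IsLocalization.atUnits L (maximalIdeal L).primeCompl
      fun x hx => notMem_maximalIdeal.1 hx).symm.toRingEquiv

theorem exists_pow_map_le {A Λ : Type u} [CommRing Λ] [IsNoetherianRing Λ] [CommRing A] (I : Ideal Λ)
    (q : Ideal Λ) [q.IsPrime] (hmin : q ∈ I.radical.minimalPrimes) :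
    ∃ n, 0 < n ∧ maximalIdeal (Localization.AtPrime q) ^ n ≤ I.map (algebraMap Λ (Localization.AtPrime q)) := by
  let loc := algebraMap Λ (Localization.AtPrime q)
  have hle : q.map loc ≤ (I.map loc).radical := by
    rw [Ideal.radical_eq_sInf]
    refine le_sInf fun P ⟨hP, hPp⟩ => ?_
    have hPc : P.comap loc ≤ q :=
      (Ideal.comap_mono (IsLocalRing.le_maximalIdeal hPp.ne_top)).trans
        (IsLocalization.AtPrime.comap_maximalIdeal (Localization.AtPrime q) q).le
    have hIP : I.radical ≤ P.comap loc :=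
      (hPp.comap loc).radical_le_iff.2 (Ideal.map_le_iff_le_comap.1 hP)
    exact Ideal.map_le_iff_le_comap.2 (hmin.2 ⟨hPp.comap loc, hIP⟩ hPc)
  obtain ⟨n, hn⟩ := Ideal.exists_pow_le_of_le_radical_of_fg hle (IsNoetherian.noetherian _)
  refine ⟨n + 1, Nat.succ_pos _, ?_⟩
  rw [← IsLocalization.AtPrime.map_eq_maximalIdeal q (Localization.AtPrime q)]
  exact (Ideal.pow_le_pow_right (Nat.le_succ n)).trans hn

set_option maxHeartbeats 4000000 in
/-- Resolving through a chart: a polynomial-type algebra carrying the parameters, and a smooth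
factorization of the reduced problem. -/
theorem resolvable_of_chart {k A Λ B C R : Type u} [Field k] [CommRing A] [Algebra k A] [CommRing Λ]
    [Algebra k Λ] (φ : A →ₐ[k] Λ) (𝔮 : Ideal Λ) [𝔮.IsPrime] {d M : ℕ} (hM : 0 < M) [CommRing B] [Algebra k B]
    [CommRing C] [Algebra B C] [Algebra k C] [Algebra (MvPolynomial (Fin d) k) C]
    [IsScalarTower k (MvPolynomial (Fin d) k) C] [IsScalarTower k B C]
    [Algebra.FinitePresentation (MvPolynomial (Fin d) k) C] (α : A →ₐ[k] B) {s : ℕ} (a : Fin s → A)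
    (ha : (singularIdeal k A).map φ ≤ Ideal.span (Set.range fun j => φ (a j)))
    (hCa : ∀ j, algebraMap B C (α (a j)) ∈ singularIdeal (MvPolynomial (Fin d) k) C)
    (hstd : ∀ i, IsStrictlyStandard (MvPolynomial (Fin d) k) C
      (algebraMap (MvPolynomial (Fin d) k) C (MvPolynomial.X i) ^ M))
    [CommRing R] [IsNoetherianRing R] [Algebra k R] [Algebra.FormallySmooth k R] [Algebra.FinitePresentation k R]
    [Algebra (MvPolynomial (Fin d) k) R] [IsScalarTower k (MvPolynomial (Fin d) k) R] [Algebra R Λ]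
    [IsScalarTower k R Λ] [Algebra (MvPolynomial (Fin d) k) Λ] [IsScalarTower (MvPolynomial (Fin d) k) R Λ]
    (φC : C →ₐ[MvPolynomial (Fin d) k] Λ) (hφC : ∀ x, φC (algebraMap B C (α x)) = φ x) (π : Fin d → R)
    (hπ : ∀ i, algebraMap (MvPolynomial (Fin d) k) R (MvPolynomial.X i) = π i)
    (hπ𝔮 : ∀ i, algebraMap R Λ (π i) ∈ 𝔮)
    (hR : ∀ i : Fin d, ∀ x : R ⧸ headIdeal (fun j => π j ^ M) 8 i,
      Ideal.Quotient.mk _ (π i ^ M) ^ 2 * x = 0 → Ideal.Quotient.mk _ (π i ^ M) * x = 0)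
    (hΛ : ∀ i : Fin d, ∀ x : Λ ⧸ headIdeal (fun j => algebraMap R Λ (π j ^ M)) 8 i,
      Ideal.Quotient.mk _ (algebraMap R Λ (π i ^ M)) ^ 2 * x = 0 →
        Ideal.Quotient.mk _ (algebraMap R Λ (π i ^ M)) * x = 0)
    (K : Ideal R) (hK : K = Ideal.span (Set.range fun i => (π i ^ M) ^ 8))
    (𝔮'' : Ideal (Λ ⧸ K.map (algebraMap R Λ))) [𝔮''.IsPrime]
    (h𝔮'' : 𝔮'' = 𝔮.map (Ideal.Quotient.mk _))
    {Lq S'' RS : Type u} [CommRing Lq] [Algebra (Λ ⧸ K.map (algebraMap R Λ)) Lq] [IsLocalization.AtPrime Lq 𝔮'']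
    [Algebra (R ⧸ K) Lq] [IsScalarTower (R ⧸ K) (Λ ⧸ K.map (algebraMap R Λ)) Lq]
    (hnil : ∀ x ∈ 𝔮'', IsNilpotent (algebraMap (Λ ⧸ K.map (algebraMap R Λ)) Lq x))
    (S : Submonoid (R ⧸ K)) (hS : ∀ x ∈ S, algebraMap (R ⧸ K) (Λ ⧸ K.map (algebraMap R Λ)) x ∉ 𝔮'')
    [CommRing RS] [Algebra (R ⧸ K) RS] [IsLocalization S RS] [CommRing S''] [Algebra (R ⧸ K) S''] [Algebra RS S'']
    [IsScalarTower (R ⧸ K) RS S''] [Algebra.FinitePresentation RS S''] [Algebra.FormallySmooth (R ⧸ K) S'']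
    (φCS : C →+* S'')
    (hφCS : ∀ q, φCS (algebraMap (MvPolynomial (Fin d) k) C q) =
      algebraMap (R ⧸ K) S'' (Ideal.Quotient.mk K (algebraMap (MvPolynomial (Fin d) k) R q)))
    (h'' : S'' →ₐ[R ⧸ K] Lq)
    (hcomm : ∀ x, h'' (φCS x) = algebraMap (Λ ⧸ K.map (algebraMap R Λ)) Lq (Ideal.Quotient.mk _ (φC x))) :
    Resolvable k φ 𝔮 := by
  classical
  let φR : R ⊗[MvPolynomial (Fin d) k] C →ₐ[R] Λ :=
    Algebra.TensorProduct.lift (Algebra.ofId _ Λ) φC fun _ _ => Commute.all _ _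
  have hφR : ∀ x, φR (1 ⊗ₜ x) = φC x := fun x => by
    show Algebra.TensorProduct.lift _ _ _ (1 ⊗ₜ x) = _
    rw [Algebra.TensorProduct.lift_tmul, map_one, one_mul]
  let φK : (R ⊗[MvPolynomial (Fin d) k] C ⧸ K.map (algebraMap R (R ⊗[MvPolynomial (Fin d) k] C))) →ₐ[R ⧸ K]
      (Λ ⧸ K.map (algebraMap R Λ)) :=
    { Ideal.quotientMap _ φR.toRingHom (Ideal.map_le_iff_le_comap.2 fun q hq => by
        rw [Ideal.mem_comap, Ideal.mem_comap]
        show φR (algebraMap R _ q) ∈ _
        rw [φR.commutes]; exact Ideal.mem_map_of_mem _ hq) with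
      commutes' := fun q => by
        obtain ⟨q, rfl⟩ := Ideal.Quotient.mk_surjective q
        exact congrArg (Ideal.Quotient.mk _) (φR.commutes q) }
  have hres : Resolvable R φR 𝔮 := by
    refine ResolveMod.resolvable φR 𝔮 (fun i => π i ^ M) (fun i => ?_) hR hΛ (fun i => ?_) K hK φK
      (fun c => rfl) ?_
    · rw [map_pow]; exact Ideal.pow_mem_of_mem _ (hπ𝔮 i) _ hM
    · have h := StandardBC.strictly_bc R (hstd i)
      rwa [show ((1 : R) ⊗ₜ[MvPolynomial (Fin d) k]
          (algebraMap (MvPolynomial (Fin d) k) C (MvPolynomial.X i) ^ M)) =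
          algebraMap R (R ⊗[MvPolynomial (Fin d) k] C) (π i ^ M) by
        rw [← map_pow, Algebra.algebraMap_eq_smul_one (A := C), ← TensorProduct.smul_tmul,
          ← Algebra.algebraMap_eq_smul_one, map_pow, hπ]
        rfl] at h
    · subst h𝔮''
      letI : Algebra R S'' := ((algebraMap (R ⧸ K) S'').comp (Ideal.Quotient.mk K)).toAlgebra
      letI : Algebra (MvPolynomial (Fin d) k) S'' :=
        ((algebraMap R S'').comp (algebraMap (MvPolynomial (Fin d) k) R)).toAlgebra
      have : IsScalarTower (MvPolynomial (Fin d) k) R S'' := IsScalarTower.of_algebraMap_eq' rfl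
      let φCSa : C →ₐ[MvPolynomial (Fin d) k] S'' := { φCS with commutes' := hφCS }
      let φRS : R ⊗[MvPolynomial (Fin d) k] C →ₐ[R] S'' :=
        Algebra.TensorProduct.lift (Algebra.ofId _ _) φCSa fun _ _ => Commute.all _ _
      have hφRS : ∀ x, φRS (1 ⊗ₜ x) = φCS x := fun x => by
        show Algebra.TensorProduct.lift _ _ _ (1 ⊗ₜ x) = _
        rw [Algebra.TensorProduct.lift_tmul, map_one, one_mul]
        rfl
      have hφRSK : ∀ x ∈ K.map (algebraMap R (R ⊗[MvPolynomial (Fin d) k] C)), φRS x = 0 := by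
        have h1 : K.map (algebraMap R (R ⊗[MvPolynomial (Fin d) k] C)) ≤ RingHom.ker φRS := by
          refine Ideal.map_le_iff_le_comap.2 fun x hx => ?_
          rw [Ideal.mem_comap, RingHom.mem_ker, φRS.commutes]
          show algebraMap (R ⧸ K) S'' (Ideal.Quotient.mk K x) = 0
          rw [Ideal.Quotient.eq_zero_iff_mem.2 hx, map_zero]
        exact fun x hx => h1 hx
      let g'' : (R ⊗[MvPolynomial (Fin d) k] C ⧸ K.map (algebraMap R (R ⊗[MvPolynomial (Fin d) k] C))) →ₐ[R ⧸ K]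
          S'' :=
        { Ideal.Quotient.lift _ φRS.toRingHom hφRSK with
          commutes' := fun q => by
            obtain ⟨q, rfl⟩ := Ideal.Quotient.mk_surjective q
            exact φRS.commutes q }
      have : Algebra.FinitePresentation (R ⧸ K)
          (R ⊗[MvPolynomial (Fin d) k] C ⧸ K.map (algebraMap R (R ⊗[MvPolynomial (Fin d) k] C))) := by
        have : Algebra.FinitePresentation R
            (R ⊗[MvPolynomial (Fin d) k] C ⧸ K.map (algebraMap R (R ⊗[MvPolynomial (Fin d) k] C))) :=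
          Algebra.FinitePresentation.quotient (Ideal.FG.map (IsNoetherian.noetherian K) _)
        exact .of_restrict_scalars_finitePresentation R _ _
      refine resolvable_of_smooth_factor φK (𝔮.map (Ideal.Quotient.mk _)) (Λq := Lq) hnil S hS (RS := RS) g'' h''
        fun x => ?_
      obtain ⟨x, rfl⟩ := Ideal.Quotient.mk_surjective x
      show h'' (φRS x) = algebraMap _ Lq (Ideal.Quotient.mk _ (φR x))
      induction x with
      | zero => simp
      | add x z hx hz => simp only [map_add, hx, hz]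
      | tmul q x =>
        rw [show q ⊗ₜ[MvPolynomial (Fin d) k] x = algebraMap R (R ⊗[MvPolynomial (Fin d) k] C) q * ((1 : R) ⊗ₜ x) by
          rw [Algebra.TensorProduct.algebraMap_apply, Algebra.TensorProduct.tmul_mul_tmul, one_mul, mul_one]
          rfl, map_mul φR, map_mul φRS, φRS.commutes, φR.commutes, map_mul, map_mul, map_mul, hφRS, hφR, hcomm]
        congr 1
        show h'' (algebraMap (R ⧸ K) S'' (Ideal.Quotient.mk K q)) = _
        rw [h''.commutes, IsScalarTower.algebraMap_apply (R ⧸ K) (Λ ⧸ K.map (algebraMap R Λ)) Lq]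
        rfl
  obtain ⟨C2, _, _, hC2, g2, h2, hgh2, hle2, hn2⟩ := hres
  letI : Algebra k C2 := ((algebraMap R C2).comp (algebraMap k R)).toAlgebra
  have : IsScalarTower k R C2 := IsScalarTower.of_algebraMap_eq' rfl
  let g : A →ₐ[k] C2 :=
    (g2.restrictScalars k).comp (((Algebra.TensorProduct.includeRight :
      C →ₐ[MvPolynomial (Fin d) k] R ⊗[MvPolynomial (Fin d) k] C).restrictScalars k).comp
      ((IsScalarTower.toAlgHom k B C).comp α))
  have hmono : singRad R h2 ≤ singRad k (h2.restrictScalars k) := by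
    refine Ideal.radical_mono (Ideal.map_mono fun z hz => ?_)
    rw [SmoothAtBasics.mem_singularIdeal_iff] at hz ⊢
    intro Q hQ hzQ
    have : Algebra.FormallySmooth R (Localization.AtPrime Q) := hz Q hzQ
    exact Algebra.FormallySmooth.comp k R (Localization.AtPrime Q)
  refine ⟨C2, inferInstance, inferInstance, Algebra.FinitePresentation.trans k R C2, g, h2.restrictScalars k,
    AlgHom.ext fun x => ?_, ?_, fun h => hn2 (hmono.trans h)⟩
  · show h2 (g2 ((1 : R) ⊗ₜ algebraMap B C (α x))) = φ x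
    exact (AlgHom.congr_fun hgh2 _).trans ((hφR _).trans (hφC x))
  · refine (Ideal.radical_isRadical _).radical_le_iff.2 (ha.trans ?_)
    rw [Ideal.span_le]
    rintro _ ⟨j, rfl⟩
    refine hmono (hle2 (Ideal.le_radical ?_))
    show φ (a j) ∈ _
    rw [show φ (a j) = φR (1 ⊗ₜ algebraMap B C (α (a j))) from ((hφR _).trans (hφC _)).symm]
    exact Ideal.mem_map_of_mem _ (tmul_mem_singularIdeal (hCa j))

set_option maxHeartbeats 4000000 in
/-- The smooth factorization of the reduced problem. -/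
theorem exists_reduced_factor {k A Λ B R : Type u} [Field k] [CommRing A] [Algebra k A] [CommRing Λ]
    [Algebra k Λ] [IsNoetherianRing Λ] (φ : A →ₐ[k] Λ) (𝔮 : Ideal Λ) [𝔮.IsPrime] {d s n M : ℕ}
    [CommRing B] [Algebra k B] [Algebra (MvPolynomial (Fin d) k) B] (α : A →ₐ[k] B) (a : Fin s → A)
    (ζ : Fin d → Fin s → B)
    (hlift : ∀ {Λ : Type u} [CommRing Λ] [Algebra k Λ],
      (∀ (φ : A →ₐ[k] Λ) (π : Fin d → Λ) (w : Fin d → Fin s → Λ),
        (∀ i, π i ^ n = ∑ j, w i j * φ (a j)) →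
        ∃ β : B →ₐ[k] Λ, β.comp α = φ ∧ (∀ i, β (algebraMap (MvPolynomial (Fin d) k) B (MvPolynomial.X i)) = π i) ∧
          ∀ i j, β (ζ i j) = w i j) ∧
      ∀ β β' : B →ₐ[k] Λ, β.comp α = β'.comp α →
        (∀ i, β (algebraMap (MvPolynomial (Fin d) k) B (MvPolynomial.X i)) =
          β' (algebraMap (MvPolynomial (Fin d) k) B (MvPolynomial.X i))) →
        (∀ i j, β (ζ i j) = β' (ζ i j)) → β = β')
    {n0 : ℕ} (yt : Fin n0 → Λ) (y : Fin n0 → Localization.AtPrime 𝔮)
    (hev : ∀ q : MvPolynomial (Fin n0) k,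
      algebraMap Λ (Localization.AtPrime 𝔮) (MvPolynomial.aeval yt q) = MvPolynomial.aeval y q)
    (G : Fin d → MvPolynomial (Fin n0) k)
    (hG : Ideal.span (Set.range fun i => MvPolynomial.aeval y (G i)) = maximalIdeal (Localization.AtPrime 𝔮))
    (hGloc : Ideal.span (Set.range fun i => algebraMap _ (Localization.AtPrime (relPrime k y)) (G i)) =
      maximalIdeal (Localization.AtPrime (relPrime k y)))
    (θ : Localization.AtPrime 𝔮) (Q : Polynomial (Localization.AtPrime (relPrime k y)))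
    (hQs : (Q.map (residue (Localization.AtPrime (relPrime k y)))).Separable)
    (hQθ : Q.eval₂ (locHom y).toRingHom θ ∈ maximalIdeal (Localization.AtPrime 𝔮) ^ (d * (8 * M) + 1 + n))
    (γ : A →ₐ[k] Polynomial (Localization.AtPrime (relPrime k y)) ⧸ modelIdeal (d * (8 * M) + 1 + n) Q)
    (ω : Fin d → Fin s → Polynomial (Localization.AtPrime (relPrime k y)))
    (w : Fin d → Fin s → Localization.AtPrime 𝔮)
    (hγ : ∀ (x : A) (P : Polynomial (Localization.AtPrime (relPrime k y))), Ideal.Quotient.mk _ P = γ x →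
      algebraMap Λ _ (φ x) - P.eval₂ (locHom y).toRingHom θ ∈
        maximalIdeal (Localization.AtPrime 𝔮) ^ (d * (8 * M) + 1 + n))
    (hωG : ∀ i, Ideal.Quotient.mk (modelIdeal (d * (8 * M) + 1 + n) Q) (Polynomial.C (algebraMap _ _ (G i))) ^ n =
      ∑ j, Ideal.Quotient.mk _ (ω i j) * γ (a j))
    (hwω : ∀ i j, w i j - (ω i j).eval₂ (locHom y).toRingHom θ ∈
      maximalIdeal (Localization.AtPrime 𝔮) ^ (d * (8 * M) + 1))
    [CommRing R] [Algebra k R] [Algebra R Λ] [IsScalarTower k R Λ] (ιP : MvPolynomial (Fin n0) k →ₐ[k] R)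
    (hιP : ∀ q, algebraMap R Λ (ιP q) = MvPolynomial.aeval yt q) (T : R) (hT𝔮 : algebraMap R Λ T ∉ 𝔮)
    (Lx : Fin d → ℕ) (β : B →ₐ[k] Λ) (hβα : β.comp α = φ)
    (hβx : ∀ i, β (algebraMap (MvPolynomial (Fin d) k) B (MvPolynomial.X i)) =
      algebraMap R Λ (T ^ Lx i * ιP (G i)))
    (hβζ : ∀ i j, algebraMap Λ (Localization.AtPrime 𝔮) (β (ζ i j)) =
      algebraMap Λ (Localization.AtPrime 𝔮) (algebraMap R Λ T ^ (n * Lx i)) * w i j)
    (K : Ideal R) (hK : K = Ideal.span (Set.range fun i => ((T ^ Lx i * ιP (G i)) ^ M) ^ 8))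
    (𝔮'' : Ideal (Λ ⧸ K.map (algebraMap R Λ))) [𝔮''.IsPrime]
    (hcomap : 𝔮''.comap (Ideal.Quotient.mk _) = 𝔮) :
    (∀ x ∈ 𝔮'', IsNilpotent (algebraMap (Λ ⧸ K.map (algebraMap R Λ)) (Localization.AtPrime 𝔮'') x)) ∧
    ∃ (RS : Type u) (_ : CommRing RS) (_ : Algebra (R ⧸ K) RS)
      (_ : IsLocalization.AtPrime RS (𝔮''.comap (algebraMap (R ⧸ K) (Λ ⧸ K.map (algebraMap R Λ)))))
      (S'' : Type u) (_ : CommRing S'') (_ : Algebra (R ⧸ K) S'') (_ : Algebra RS S'')
      (_ : IsScalarTower (R ⧸ K) RS S''), Algebra.FinitePresentation RS S'' ∧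
      Algebra.FormallySmooth (R ⧸ K) S'' ∧
      ∃ (βS : B →+* S'') (h'' : S'' →ₐ[R ⧸ K] Localization.AtPrime 𝔮''),
        (∀ c : k, βS (algebraMap k B c) = algebraMap (R ⧸ K) S'' (Ideal.Quotient.mk K (algebraMap k R c))) ∧
        (∀ i, βS (algebraMap (MvPolynomial (Fin d) k) B (MvPolynomial.X i)) =
          algebraMap (R ⧸ K) S'' (Ideal.Quotient.mk K (T ^ Lx i * ιP (G i)))) ∧
        ∀ x, h'' (βS x) = algebraMap _ (Localization.AtPrime 𝔮'')
          (Ideal.Quotient.mk (K.map (algebraMap R Λ)) (β x)) := by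
  classical
  let r := relPrime k y
  let KΛ : Ideal Λ := K.map (algebraMap R Λ)
  let πR : Fin d → R := fun i => T ^ Lx i * ιP (G i)
  have hπ : ∀ i, algebraMap R Λ (πR i) = algebraMap R Λ T ^ Lx i * MvPolynomial.aeval yt (G i) := fun i => by
    rw [map_mul, map_pow, hιP]
  have hu𝔮 : Ideal.span (Set.range fun i => algebraMap Λ (Localization.AtPrime 𝔮) (MvPolynomial.aeval yt (G i))) =
      maximalIdeal (Localization.AtPrime 𝔮) := by simpa only [hev] using hG
  let toL : Λ →+* Localization.AtPrime 𝔮'' :=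
    (algebraMap (Λ ⧸ KΛ) (Localization.AtPrime 𝔮'')).comp (Ideal.Quotient.mk KΛ)
  have htoLu : ∀ m : 𝔮.primeCompl, IsUnit (toL m) := fun m =>
    IsLocalization.map_units (Localization.AtPrime 𝔮'') (⟨Ideal.Quotient.mk KΛ m.1, fun h => m.2 (hcomap.le h)⟩ : 𝔮''.primeCompl)
  let lq : Localization.AtPrime 𝔮 →+* Localization.AtPrime 𝔮'' := IsLocalization.lift htoLu
  have hlq : ∀ x, lq (algebraMap Λ _ x) = toL x := IsLocalization.lift_eq htoLu
  let N' := d * (8 * M) + 1
  have hkill : ∀ x ∈ maximalIdeal (Localization.AtPrime 𝔮) ^ N', lq x = 0 := by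
    have h1 : maximalIdeal (Localization.AtPrime 𝔮) ^ N' ≤ RingHom.ker lq := by
      refine (le_of_eq (congrArg (· ^ N') hu𝔮.symm)).trans
        ((pow_le_span_pow _ (8 * M)).trans (Ideal.span_le.2 ?_))
      rintro _ ⟨i, rfl⟩
      show lq (algebraMap Λ (Localization.AtPrime 𝔮) (MvPolynomial.aeval yt (G i)) ^ (8 * M)) = 0
      rw [← map_pow, hlq]
      have hz : toL (algebraMap R Λ (πR i) ^ (8 * M)) = 0 := by
        show algebraMap _ _ (Ideal.Quotient.mk KΛ (algebraMap R Λ (πR i) ^ (8 * M))) = 0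
        rw [Ideal.Quotient.eq_zero_iff_mem.2, map_zero]
        rw [mul_comm 8 M, pow_mul, ← map_pow, ← map_pow]
        exact Ideal.mem_map_of_mem _ (hK.ge (Ideal.subset_span ⟨i, rfl⟩))
      rw [hπ, mul_pow, map_mul] at hz
      exact ((htoLu ⟨(algebraMap R Λ T), hT𝔮⟩).pow _ |>.pow _).mul_right_eq_zero.1 (by rwa [map_pow toL, map_pow toL] at hz)
    exact fun x hx => h1 hx
  have hnil : ∀ x ∈ 𝔮'', IsNilpotent (algebraMap (Λ ⧸ KΛ) (Localization.AtPrime 𝔮'') x) := by
    intro x hx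
    obtain ⟨x, rfl⟩ := Ideal.Quotient.mk_surjective x
    have hx' : x ∈ 𝔮 := hcomap.le hx
    refine ⟨N', ?_⟩
    show toL x ^ N' = 0
    rw [← hlq, ← map_pow]
    exact hkill _ (Ideal.pow_mem_pow ((IsLocalization.AtPrime.to_map_mem_maximal_iff _ 𝔮 x).2 hx') _)
  let 𝔭 : Ideal (R ⧸ K) := 𝔮''.comap (algebraMap _ (Λ ⧸ KΛ))
  have h𝔭 : 𝔭.IsPrime := Ideal.IsPrime.comap _
  let RS := Localization.AtPrime 𝔭
  let toS : R →ₐ[k] Localization.AtPrime 𝔭 :=
    (IsScalarTower.toAlgHom k _ _).comp (Ideal.Quotient.mkₐ k K)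
  have h𝔭mk : ∀ x, algebraMap R Λ x ∉ 𝔮 → IsUnit (toS x) := fun x hx =>
    IsLocalization.map_units (Localization.AtPrime 𝔭) (⟨Ideal.Quotient.mk K x, fun h => hx (hcomap.le h)⟩ : 𝔭.primeCompl)
  have hχu : ∀ q : r.primeCompl, IsUnit ((toS.comp ιP) (q : MvPolynomial (Fin n0) k)) :=
    fun q => h𝔭mk _ fun h => q.2 (by
      show MvPolynomial.aeval y q.1 ∈ maximalIdeal (Localization.AtPrime 𝔮)
      rw [← hev]
      refine (IsLocalization.AtPrime.to_map_mem_maximal_iff _ 𝔮 _).2 ?_
      rw [← hιP]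
      exact h)
  let χ : Localization.AtPrime r →ₐ[k] Localization.AtPrime 𝔭 := IsLocalization.liftAlgHom hχu
  have hχ : ∀ q, χ (algebraMap _ _ q) = toS (ιP q) := fun q => IsLocalization.lift_eq _ q
  have hTS : IsUnit (toS T) := h𝔭mk T hT𝔮
  have hχkill : ∀ x ∈ maximalIdeal (Localization.AtPrime r) ^ (d * (8 * M) + 1 + n), χ x = 0 := by
    have h1 : maximalIdeal (Localization.AtPrime r) ^ N' ≤ RingHom.ker χ := by
      rw [← hGloc]
      refine (pow_le_span_pow _ (8 * M)).trans (Ideal.span_le.2 ?_)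
      rintro _ ⟨i, rfl⟩
      rw [SetLike.mem_coe, RingHom.mem_ker, map_pow, hχ]
      have hz : toS (πR i ^ (8 * M)) = 0 := by
        show algebraMap _ _ (Ideal.Quotient.mk K (πR i ^ (8 * M))) = 0
        rw [Ideal.Quotient.eq_zero_iff_mem.2, map_zero]
        rw [mul_comm 8 M, pow_mul]
        exact hK.ge (Ideal.subset_span ⟨i, rfl⟩)
      rw [map_pow, map_mul, mul_pow, map_pow] at hz
      exact ((hTS.pow _).pow _).mul_right_eq_zero.1 hz
    exact fun x hx => h1 (Ideal.pow_le_pow_right (Nat.le_add_right _ _) hx)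
  let QS := Q.map χ.toRingHom
  let S'' := AdjoinRoot QS
  let νP : Polynomial (Localization.AtPrime r) →ₐ[k] AdjoinRoot QS :=
    Polynomial.aevalTower ((IsScalarTower.toAlgHom k (Localization.AtPrime 𝔭) (AdjoinRoot QS)).comp χ)
      (AdjoinRoot.root QS)
  have hνP : ∀ P, νP P = AdjoinRoot.mk QS (P.map χ.toRingHom) := by
    intro P
    rw [← AdjoinRoot.aeval_eq, Polynomial.aeval_def, Polynomial.eval₂_map]
    rfl
  have hνI : ∀ P ∈ modelIdeal (d * (8 * M) + 1 + n) Q, νP P = 0 := by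
    have h1 : modelIdeal (d * (8 * M) + 1 + n) Q ≤ RingHom.ker νP := by
      refine sup_le (Ideal.map_le_iff_le_comap.2 fun x hx => ?_) (Ideal.span_le.2 (Set.singleton_subset_iff.2 ?_))
      · rw [Ideal.mem_comap, RingHom.mem_ker, hνP, Polynomial.map_C]
        show AdjoinRoot.mk QS (Polynomial.C (χ x)) = 0
        rw [hχkill x hx, map_zero, map_zero]
      · rw [SetLike.mem_coe, RingHom.mem_ker, hνP]
        exact AdjoinRoot.mk_self
    exact fun P hP => h1 hP
  let νE := Ideal.Quotient.liftₐ (modelIdeal (d * (8 * M) + 1 + n) Q) νP hνI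
  have hder : IsUnit (AdjoinRoot.mk QS (Polynomial.derivative QS)) := by
    obtain ⟨b₁, b₂, hb⟩ := hQs
    obtain ⟨b₁, rfl⟩ := Polynomial.map_surjective _ residue_surjective b₁
    obtain ⟨b₂, rfl⟩ := Polynomial.map_surjective _ residue_surjective b₂
    have h1 : b₁ * Q + b₂ * Polynomial.derivative Q - 1 ∈
        (maximalIdeal (Localization.AtPrime r)).map Polynomial.C := by
      have hk : RingHom.ker (Polynomial.mapRingHom (residue (Localization.AtPrime r))) =
          (maximalIdeal (Localization.AtPrime r)).map Polynomial.C := by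
        rw [Polynomial.ker_mapRingHom, ker_residue]
      rw [← hk, RingHom.mem_ker, map_sub, map_add, map_mul, map_mul, map_one, sub_eq_zero]
      simpa [Polynomial.derivative_map] using hb
    have h2 : IsNilpotent (νP (b₁ * Q + b₂ * Polynomial.derivative Q - 1)) := ⟨d * (8 * M) + 1 + n, by
      rw [← map_pow]
      refine hνI _ (Ideal.mem_sup_left ?_)
      rw [Ideal.map_pow]
      exact Ideal.pow_mem_pow h1 _⟩
    have h3 := h2.isUnit_add_one
    have h5 : νP (b₁ * Q + b₂ * Polynomial.derivative Q - 1) + 1 = νP b₂ * νP (Polynomial.derivative Q) := by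
      rw [← map_one νP, ← map_add, show b₁ * Q + b₂ * Polynomial.derivative Q - 1 + 1 =
          b₁ * Q + b₂ * Polynomial.derivative Q by ring, map_add, map_mul, map_mul,
        hνI Q (Ideal.mem_sup_right (Ideal.mem_span_singleton_self Q)), mul_zero, zero_add]
    rw [h5] at h3
    have h4 := isUnit_of_mul_isUnit_right h3
    rwa [hνP, ← Polynomial.derivative_map] at h4
  have : Algebra.FormallySmooth (Localization.AtPrime 𝔭) (AdjoinRoot QS) := formallySmooth_adjoinRoot QS hder
  have : Algebra.FinitePresentation (Localization.AtPrime 𝔭) (AdjoinRoot QS) :=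
    finitePresentation_adjoinRoot QS
  have : Algebra.FormallySmooth (R ⧸ K) (Localization.AtPrime 𝔭) :=
    Algebra.FormallySmooth.of_isLocalization 𝔭.primeCompl
  have : Algebra.FormallySmooth (R ⧸ K) (AdjoinRoot QS) :=
    Algebra.FormallySmooth.comp _ (Localization.AtPrime 𝔭) _
  let toS'' : R →ₐ[k] AdjoinRoot QS :=
    (IsScalarTower.toAlgHom k (Localization.AtPrime 𝔭) (AdjoinRoot QS)).comp toS
  have htoS''C : ∀ q, toS'' (ιP q) = νP (Polynomial.C (algebraMap _ _ q)) := fun q => by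
    show algebraMap _ _ (toS (ιP q)) = _
    rw [hνP, Polynomial.map_C, ← hχ]
    rfl
  -- the map from the cover
  have hwS : ∀ i, toS'' (πR i) ^ n =
      ∑ j, (toS'' (T ^ (n * Lx i)) * νP (ω i j)) * (νE.comp γ) (a j) := by
    intro i
    have h := congrArg νE (hωG i)
    rw [map_pow, map_sum] at h
    simp only [map_mul] at h
    rw [show νE (Ideal.Quotient.mk _ (Polynomial.C (algebraMap _ _ (G i)))) = toS'' (ιP (G i)) from
      (htoS''C (G i)).symm] at h
    rw [map_mul, mul_pow, h, ← map_pow, ← pow_mul, mul_comm (Lx i) n, Finset.mul_sum]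
    exact Finset.sum_congr rfl fun j _ => (mul_assoc _ _ _).symm
  obtain ⟨βS, hβSα, hβSx, hβSζ⟩ := hlift.1 (νE.comp γ) (fun i => toS'' (πR i))
    (fun i j => toS'' (T ^ (n * Lx i)) * νP (ω i j)) hwS
  -- the map back
  let locS : Localization.AtPrime 𝔭 →ₐ[R ⧸ K] Localization.AtPrime 𝔮'' :=
    IsLocalization.liftAlgHom (S := Localization.AtPrime 𝔭) (M := 𝔭.primeCompl)
      (f := Algebra.ofId _ (Localization.AtPrime 𝔮'')) fun x => by
        show IsUnit (algebraMap _ (Localization.AtPrime 𝔮'') x.1)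
        rw [IsScalarTower.algebraMap_apply _ (Λ ⧸ KΛ) (Localization.AtPrime 𝔮'')]
        exact IsLocalization.map_units (Localization.AtPrime 𝔮'') (⟨_, x.2⟩ : 𝔮''.primeCompl)
  have hlocS : ∀ x, locS (toS x) = toL (algebraMap R Λ x) := fun x =>
    (locS.commutes (Ideal.Quotient.mk K x)).trans rfl
  have hlocχ : locS.toRingHom.comp χ.toRingHom = lq.comp (locHom y).toRingHom := by
    refine IsLocalization.ringHom_ext r.primeCompl (RingHom.ext fun q => ?_)
    show locS (χ (algebraMap _ _ q)) = lq (locHom y (algebraMap _ _ q))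
    rw [hχ, hlocS, locHom_algebraMap, ← hev, hιP]
    exact (hlq _).symm
  have hQz : QS.eval₂ locS.toRingHom (lq θ) = 0 := by
    rw [Polynomial.eval₂_map, hlocχ, ← Polynomial.hom_eval₂]
    exact hkill _ (Ideal.pow_le_pow_right (Nat.le_add_right _ _) hQθ)
  let h'' : AdjoinRoot QS →ₐ[R ⧸ K] Localization.AtPrime 𝔮'' :=
    AdjoinRoot.liftAlgHom QS locS (lq θ) hQz
  have hh''S : ∀ x, h'' (toS'' x) = toL (algebraMap R Λ x) := fun x =>
    (AdjoinRoot.lift_of hQz).trans (hlocS x)
  have hh''ν : ∀ P, h'' (νP P) = lq (P.eval₂ (locHom y).toRingHom θ) := fun P => by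
    rw [hνP, Polynomial.hom_eval₂, ← hlocχ, ← Polynomial.eval₂_map]
    exact AdjoinRoot.lift_mk hQz _
  have : IsScalarTower k (R ⧸ K) (Localization.AtPrime 𝔮'') := IsScalarTower.of_algebraMap_eq fun c => by
    rw [IsScalarTower.algebraMap_apply (R ⧸ K) (Λ ⧸ KΛ) (Localization.AtPrime 𝔮'')]
    show _ = algebraMap (Λ ⧸ KΛ) _ (Ideal.Quotient.mk KΛ (algebraMap R Λ (algebraMap k R c)))
    rw [← IsScalarTower.algebraMap_apply k R Λ]
    rfl
  let toLk : Λ →ₐ[k] Localization.AtPrime 𝔮'' :=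
    (IsScalarTower.toAlgHom k (Λ ⧸ KΛ) _).comp (Ideal.Quotient.mkₐ k KΛ)
  have hcomp : (h''.restrictScalars k).comp βS = toLk.comp β := by
    refine hlift.2 _ _ (AlgHom.ext fun x => ?_) (fun i => ?_) fun i j => ?_
    · show h'' (βS (α x)) = toL (β (α x))
      rw [show βS (α x) = νE (γ x) from AlgHom.congr_fun hβSα x, show β (α x) = φ x from AlgHom.congr_fun hβα x]
      obtain ⟨P, hP⟩ := Ideal.Quotient.mk_surjective (γ x)
      rw [← hP, show νE (Ideal.Quotient.mk _ P) = νP P from rfl, hh''ν, ← hlq, eq_comm, ← sub_eq_zero, ← map_sub]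
      exact hkill _ (Ideal.pow_le_pow_right (Nat.le_add_right _ _) (hγ x P hP))
    · show h'' (βS _) = toL (β _)
      rw [hβSx, hβx, hh''S]
    · show h'' (βS _) = toL (β _)
      rw [hβSζ, map_mul, hh''S, hh''ν, ← hlq (β (ζ i j)), hβζ, ← hlq, ← map_mul, eq_comm, ← sub_eq_zero,
        ← map_sub]
      refine hkill _ ?_
      rw [map_pow (algebraMap R Λ), ← mul_sub]
      exact Ideal.mul_mem_left _ _ (hwω i j)
  refine ⟨hnil, Localization.AtPrime 𝔭, inferInstance, inferInstance, inferInstance, AdjoinRoot QS, inferInstance,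
    inferInstance, inferInstance, inferInstance, inferInstance, inferInstance, βS.toRingHom, h'', fun c => ?_,
    fun i => ?_, fun x => AlgHom.congr_fun hcomp x⟩
  · exact (βS.commutes c).trans (toS''.commutes c).symm
  · exact hβSx i

set_option maxHeartbeats 4000000 in
theorem resolvable_charP {k A Λ : Type u} [Field k] (p : ℕ) [Fact p.Prime] [CharP k p] [CommRing A]
    [Algebra k A] [Algebra.FinitePresentation k A] [CommRing Λ] [Algebra k Λ] [IsNoetherianRing Λ]
    (hreg : CAlg.IsGeometricallyRegular k Λ) (φ : A →ₐ[k] Λ) (𝔮 : Ideal Λ) [𝔮.IsPrime]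
    (hmin : 𝔮 ∈ (singRad k φ).minimalPrimes) : Resolvable k φ 𝔮 := by
  classical
  let L := Localization.AtPrime 𝔮
  let loc : Λ →ₐ[k] Localization.AtPrime 𝔮 := IsScalarTower.toAlgHom k Λ _
  have hgL : CAlg.IsGeometricallyRegular k (Localization.AtPrime 𝔮) :=
    Groth.Calg4.isGeometricallyRegular_localization 𝔮.primeCompl _ hreg
  have : IsRegularLocalRing (Localization.AtPrime 𝔮) := isRegularLocalRing_of_geometricallyRegular hgL
  have hL : CAlgX.IsAdicFormallySmooth k (Localization.AtPrime 𝔮) (maximalIdeal _) :=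
    (Groth.Agent.S2036.result p).1 hgL
  obtain ⟨d, hd⟩ : ∃ d, (maximalIdeal (Localization.AtPrime 𝔮)).spanFinrank = d := ⟨_, rfl⟩
  have hdimL : ringKrullDim (Localization.AtPrime 𝔮) = d := by
    rw [← hd]; exact IsRegularLocalRing.spanFinrank_maximalIdeal.symm
  have : IsNoetherianRing A := Algebra.FiniteType.isNoetherianRing k A
  obtain ⟨s, a, ha⟩ := Submodule.fg_iff_exists_fin_generating_family.1 (IsNoetherian.noetherian (singularIdeal k A))
  have haS : ∀ j, a j ∈ singularIdeal k A := fun j =>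
    (SetLike.ext_iff.1 ha _).1 (Submodule.subset_span ⟨j, rfl⟩)
  have hImap : Ideal.span (Set.range fun j => φ (a j)) = (singularIdeal k A).map φ := by
    rw [← ha, Ideal.submodule_span_eq, Ideal.map_span, ← Set.range_comp]; rfl
  obtain ⟨n, hn, hna⟩ := exists_pow_map_le (A := A) ((singularIdeal k A).map φ) 𝔮 hmin
  have hna' : maximalIdeal (Localization.AtPrime 𝔮) ^ n ≤
      Ideal.span (Set.range fun j => (loc.comp φ) (a j)) := by
    refine hna.trans (le_of_eq ?_)
    rw [← hImap, Ideal.map_span, ← Set.range_comp]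
    rfl
  -- the cover
  obtain ⟨B, _, _, _, _, hB, α, hBa, hBx, ζ, hlift⟩ := exists_cover_witness a haS n d
  obtain ⟨C, _, _, _, _, hCft, ⟨ρ⟩, hC⟩ :=
    FreeKaehler.exists_retract_smooth (R := MvPolynomial (Fin d) k) (A := B)
  have : Algebra.FiniteType (MvPolynomial (Fin d) k) C := Algebra.FiniteType.trans (S := B) inferInstance hCft
  have hCfp : Algebra.FinitePresentation (MvPolynomial (Fin d) k) C :=
    Algebra.FinitePresentation.of_finiteType.1 inferInstance
  have hsingC : ∀ b ∈ singularIdeal (MvPolynomial (Fin d) k) B,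
      Algebra.Smooth (MvPolynomial (Fin d) k) (Localization.Away (algebraMap B C b)) := fun b hb => by
    have hsm := SmoothAtBasics.mem_singularIdeal_iff_smooth.1 hb
    exact { formallySmooth := (hC b hsm).1,
            finitePresentation := Algebra.FinitePresentation.trans (MvPolynomial (Fin d) k) C _ }
  have hCx : ∀ i, ∃ e₀ : ℕ, ∀ N : ℕ, e₀ ≤ N → IsStrictlyStandard (MvPolynomial (Fin d) k) C
      (algebraMap (MvPolynomial (Fin d) k) C (MvPolynomial.X i) ^ N) := by
    intro i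
    let c := algebraMap B C (algebraMap (MvPolynomial (Fin d) k) B (MvPolynomial.X i))
    have : Algebra.Smooth (MvPolynomial (Fin d) k) (Localization.Away c) := hsingC _ (hBx i)
    have : Module.Free (Localization.Away c) Ω[Localization.Away c⁄MvPolynomial (Fin d) k] :=
      (hC _ (SmoothAtBasics.mem_singularIdeal_iff_smooth.1 (hBx i))).2
    have : Module.Finite (Localization.Away c) Ω[Localization.Away c⁄MvPolynomial (Fin d) k] := inferInstance
    let bs := (Module.Free.chooseBasis (Localization.Away c) Ω[Localization.Away c⁄MvPolynomial (Fin d) k]).reindex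
      (Fintype.equivFin _)
    have hc : c = algebraMap (MvPolynomial (Fin d) k) C (MvPolynomial.X i) :=
      (IsScalarTower.algebraMap_apply (MvPolynomial (Fin d) k) B C (MvPolynomial.X i)).symm
    obtain ⟨e₀, he₀⟩ := StableFree.pow_isStrictlyStandard c 0 _
      (LinearEquiv.prodUnique.trans bs.equivFun)
    exact ⟨e₀, fun N hN => hc ▸ he₀ N hN⟩
  choose e₀ he₀ using hCx
  obtain ⟨M, hM0, hM⟩ : ∃ M, 0 < M ∧ ∀ i, e₀ i ≤ M := ⟨(∑ i, e₀ i) + 1, Nat.succ_pos _, fun i =>
    (Finset.single_le_sum (f := e₀) (fun _ _ => Nat.zero_le _) (Finset.mem_univ i)).trans (Nat.le_succ _)⟩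
  -- the model
  obtain ⟨n0, y, hy, G, hG, hGloc, θ, Q, hQm, hQs, hQθ, γ, ω, w, hγ, hωG, hwG, hwω⟩ :=
    exists_model_algebra p hL (loc.range) (fun x => by
      obtain ⟨⟨a', t⟩, h⟩ := IsLocalization.surj 𝔮.primeCompl x
      exact ⟨_, ⟨a', rfl⟩, _, ⟨t.1, rfl⟩, IsLocalization.map_units _ t, h⟩)
      (loc.comp φ) a hn hna' hd (8 * M)
  choose yt hyt using hy
  let P := MvPolynomial (Fin n0) k
  let r := relPrime k y
  have hev : ∀ q : MvPolynomial (Fin n0) k, loc (MvPolynomial.aeval yt q) = MvPolynomial.aeval y q := fun q => by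
    rw [MvPolynomial.comp_aeval_apply]
    congr 1
    exact congrArg MvPolynomial.aeval (funext hyt)
  let u : Fin d → Λ := fun i => MvPolynomial.aeval yt (G i)
  have hu : Ideal.span (Set.range fun i => algebraMap Λ (Localization.AtPrime 𝔮) (u i)) =
      maximalIdeal (Localization.AtPrime 𝔮) := by
    rw [← hG]
    exact congrArg (fun f => Ideal.span (Set.range f)) (funext fun i => hev (G i))
  have : IsRegularRing (MvPolynomial (Fin n0) k) := MvPolynomial.isRegularRing_of_isRegularRing k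
  have hdimR : ringKrullDim (Localization.AtPrime r) = d := by
    rw [← IsRegularLocalRing.spanFinrank_maximalIdeal]
    congr 1
    refine card_eq_spanFinrank _ hGloc fun b hb i => ?_
    have h1 : ∀ x ∈ maximalIdeal (Localization.AtPrime r), locHom y x ∈ maximalIdeal (Localization.AtPrime 𝔮) :=
      fun x hx => (locHom_mem_maximalIdeal_iff y x).2 hx
    have h2 : locHom y (∑ i, b i * algebraMap _ _ (G i)) ∈ maximalIdeal (Localization.AtPrime 𝔮) ^ 2 := by
      refine (?_ : maximalIdeal (Localization.AtPrime r) ^ 2 ≤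
        (maximalIdeal (Localization.AtPrime 𝔮) ^ 2).comap (locHom y)) hb
      refine (Ideal.pow_right_mono ?_ 2).trans (Ideal.le_comap_pow _ 2)
      exact fun x hx => h1 x hx
    rw [map_sum, show (∑ l, locHom y (b l * algebraMap _ _ (G l))) =
      ∑ l, locHom y (b l) * MvPolynomial.aeval y (G l) from Finset.sum_congr rfl fun l _ =>
        (map_mul _ _ _).trans (congrArg (locHom y (b l) * ·) (locHom_algebraMap y (G l)))] at h2
    rw [← locHom_mem_maximalIdeal_iff y (b i)]
    let Pb : MvPolynomial (Fin d) (Localization.AtPrime 𝔮) :=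
      ∑ l, MvPolynomial.C (locHom y (b l)) * MvPolynomial.X l
    have hPb : Pb.IsHomogeneous 1 :=
      MvPolynomial.IsHomogeneous.sum _ _ _ fun l _ => MvPolynomial.isHomogeneous_C_mul_X _ _
    have hh := isQuasiRegular_parameters _ hG hd 1 Pb hPb (by rw [hG]; simpa [Pb] using h2) (Finsupp.single i 1)
    rw [hG] at hh
    have hcP : MvPolynomial.coeff (Finsupp.single i 1) Pb = locHom y (b i) := by
      simp only [Pb, MvPolynomial.coeff_sum, MvPolynomial.coeff_C_mul, MvPolynomial.coeff_X',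
        Finsupp.single_eq_single_iff]
      rw [Finset.sum_eq_single i]
      · simp
      · intro l _ hl; simp [hl]
      · simp
    rwa [hcP] at hh
  -- the killers
  obtain ⟨sP, hsP, hsPk⟩ := exists_killer r G hdimR hGloc (show 0 < 8 * M by omega) (2 * M)
  obtain ⟨sΛ, hsΛ, hsΛk⟩ := exists_killer 𝔮 u hdimL hu (show 0 < 8 * M by omega) (2 * M)
  obtain ⟨⟨s₀, hs₀⟩, hwt⟩ := IsLocalization.exist_integer_multiples_of_finite 𝔮.primeCompl
    (fun q : Fin d × Fin s => w q.1 q.2)
  choose wt hwt using hwt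
  have hν : ∀ i, ∃ ν : 𝔮.primeCompl, (ν : Λ) * (s₀ * u i ^ n - ∑ j, wt (i, j) * φ (a j)) = 0 := by
    intro i
    refine (IsLocalization.map_eq_zero_iff 𝔮.primeCompl (Localization.AtPrime 𝔮) _).1 ?_
    rw [map_sub, map_mul, map_pow, map_sum, show algebraMap Λ (Localization.AtPrime 𝔮) (u i) =
      MvPolynomial.aeval y (G i) from hev (G i), hwG i, Finset.mul_sum, sub_eq_zero]
    refine Finset.sum_congr rfl fun j _ => ?_
    rw [map_mul, hwt (i, j), Algebra.smul_def, mul_assoc]
    rfl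
  choose ν hν using hν
  let τ : Λ := sΛ * (s₀ * ∏ i, (ν i : Λ))
  have hτ : τ ∉ 𝔮 := Ideal.IsPrime.mul_notMem inferInstance hsΛ (Ideal.IsPrime.mul_notMem inferInstance hs₀
    fun h => by
      obtain ⟨i, -, hi⟩ := (Ideal.IsPrime.prod_mem_iff (p := 𝔮)).1 h
      exact (ν i).2 hi)
  suffices key : ∀ (R : Type u) [CommRing R] [IsNoetherianRing R] [Algebra k R] [Algebra.FormallySmooth k R]
      [Algebra.FinitePresentation k R] (ιP : MvPolynomial (Fin n0) k →ₐ[k] R) (T : R) (rho : R →ₐ[k] Λ),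
      (∀ q, rho (ιP q) = MvPolynomial.aeval yt q) → rho T = τ * MvPolynomial.aeval yt sP →
      (∀ i, ∀ x : R, ιP (G i) ^ (2 * M) * x ∈ headIdeal (fun j => ιP (G j)) (8 * M) i →
        T * x ∈ headIdeal (fun j => ιP (G j)) (8 * M) i) → Resolvable k φ 𝔮 by
    have : Algebra.FormallySmooth k (Polynomial (MvPolynomial (Fin n0) k)) :=
      Algebra.FormallySmooth.comp k (MvPolynomial (Fin n0) k) _
    exact key (Polynomial (MvPolynomial (Fin n0) k)) (IsScalarTower.toAlgHom k _ _)
      (Polynomial.X * Polynomial.C sP) (Polynomial.aevalTower (MvPolynomial.aeval yt) τ)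
      (fun q => Polynomial.aevalTower_C _ _ q)
      (by rw [map_mul, Polynomial.aevalTower_X, Polynomial.aevalTower_C])
      (killer_of_dvd (dvd_mul_left _ _) (killer_polynomial G _ _ sP hsPk))
  intro R _ _ _ _ _ ιP T rho hrC hrT hkR
  have hT𝔮 : rho T ∉ 𝔮 := by
    rw [hrT]
    refine Ideal.IsPrime.mul_notMem inferInstance hτ fun h => hsP ?_
    show MvPolynomial.aeval y sP ∈ maximalIdeal (Localization.AtPrime 𝔮)
    rw [← hev]
    exact (IsLocalization.AtPrime.to_map_mem_maximal_iff _ 𝔮 _).2 h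
  let uR : Fin d → R := fun i => ιP (G i)
  obtain ⟨bdR, hbdR, hbR⟩ := exists_bound uR T M hM0
    hkR
  obtain ⟨bdΛ, hbdΛ, hbΛ⟩ := exists_bound u (rho T) M hM0
    (killer_of_dvd ((dvd_mul_right sΛ _).trans (hrT ▸ dvd_mul_right τ _)) hsΛk)
  obtain ⟨Lx, hLx⟩ := exists_exponents (fun L i => max (max (bdR L i) (bdΛ L i)) 1)
    (fun i L L' h => by rw [hbdR i L L' h, hbdΛ i L L' h])
  let πR : Fin d → R := fun i => T ^ Lx i * uR i
  have hπ : ∀ i, rho (πR i) = rho T ^ Lx i * u i := fun i => by rw [map_mul, map_pow, hrC]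
  letI algR : Algebra (MvPolynomial (Fin d) k) (R) :=
    (MvPolynomial.aeval (R := k) πR).toRingHom.toAlgebra
  letI algΛ : Algebra (R) Λ := rho.toRingHom.toAlgebra
  letI algR0Λ : Algebra (MvPolynomial (Fin d) k) Λ :=
    (rho.comp (MvPolynomial.aeval (R := k) πR)).toRingHom.toAlgebra
  have : IsScalarTower (MvPolynomial (Fin d) k) (R) Λ :=
    IsScalarTower.of_algebraMap_eq' rfl
  have : IsScalarTower k (R) Λ :=
    IsScalarTower.of_algebraMap_eq fun x => (rho.commutes x).symm
  have hXR : ∀ i, algebraMap (MvPolynomial (Fin d) k) (R) (MvPolynomial.X i) =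
      πR i := fun i => MvPolynomial.aeval_X _ i
  -- witnesses in `Λ`
  have hc : ∀ i, ∃ c, rho T ^ (n * Lx i) = c * (s₀ * (ν i : Λ)) := by
    intro i
    have h1 : 1 ≤ n * Lx i := Nat.mul_pos hn (le_trans (le_max_right _ _) (hLx i))
    have h2 : (s₀ * (ν i : Λ)) ∣ rho T :=
      (((mul_dvd_mul_left s₀ (Finset.dvd_prod_of_mem _ (Finset.mem_univ i))).mul_left sΛ).mul_right _).trans
        hrT.symm.dvd
    obtain ⟨c, hc⟩ := h2.trans (dvd_pow_self (rho T) (by omega : n * Lx i ≠ 0))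
    exact ⟨c, by rw [hc, mul_comm]⟩
  choose c hc using hc
  let zΛ : Fin d → Fin s → Λ := fun i j => c i * ν i * wt (i, j)
  have hzΛ : ∀ i, (rho (πR i)) ^ n = ∑ j, zΛ i j * φ (a j) := by
    intro i
    rw [hπ, mul_pow, ← pow_mul, mul_comm (Lx i) n, hc]
    simp only [zΛ, mul_assoc, ← Finset.mul_sum]
    linear_combination c i * hν i
  obtain ⟨β, hβα, hβx, hβζ⟩ := hlift.1 φ (fun i => rho (πR i)) zΛ hzΛ
  let φB : B →ₐ[MvPolynomial (Fin d) k] Λ :=
    { β.toRingHom with
      commutes' := fun q => by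
        refine AlgHom.congr_fun (φ₁ := β.comp (IsScalarTower.toAlgHom k (MvPolynomial (Fin d) k) B))
          (φ₂ := rho.comp (MvPolynomial.aeval (R := k) πR)) ?_ q
        refine MvPolynomial.algHom_ext fun i => (hβx i).trans ?_
        show rho (πR i) = rho (MvPolynomial.aeval πR (MvPolynomial.X i))
        rw [MvPolynomial.aeval_X] }
  letI : Algebra k C := ((algebraMap B C).comp (algebraMap k B)).toAlgebra
  have : IsScalarTower k B C := IsScalarTower.of_algebraMap_eq' rfl
  have : IsScalarTower k (MvPolynomial (Fin d) k) C := IsScalarTower.of_algebraMap_eq fun x => by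
    rw [IsScalarTower.algebraMap_apply k B C, IsScalarTower.algebraMap_apply k (MvPolynomial (Fin d) k) B,
      ← IsScalarTower.algebraMap_apply]
  let φC : C →ₐ[MvPolynomial (Fin d) k] Λ := φB.comp (ρ.restrictScalars (MvPolynomial (Fin d) k))
  have hu𝔮 : ∀ i, u i ∈ 𝔮 := fun i =>
    (IsLocalization.AtPrime.to_map_mem_maximal_iff (Localization.AtPrime 𝔮) 𝔮 _).1
      (hu ▸ Ideal.subset_span ⟨i, rfl⟩)
  let K : Ideal (R) := Ideal.span (Set.range fun i => (πR i ^ M) ^ 8)
  let KΛ : Ideal Λ := K.map (algebraMap (R) Λ)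
  have hK𝔮 : KΛ ≤ 𝔮 := by
    show Ideal.map _ (Ideal.span _) ≤ 𝔮
    rw [Ideal.map_span, Ideal.span_le]
    rintro _ ⟨_, ⟨i, rfl⟩, rfl⟩
    show algebraMap _ Λ ((πR i ^ M) ^ 8) ∈ 𝔮
    rw [← pow_mul, map_pow, show algebraMap _ Λ (πR i) = _ from hπ i]
    exact Ideal.pow_mem_of_mem _ (Ideal.mul_mem_left _ _ (hu𝔮 i)) _ (by omega)
  let 𝔮'' : Ideal (Λ ⧸ KΛ) := 𝔮.map (Ideal.Quotient.mk KΛ)
  have hker : RingHom.ker (Ideal.Quotient.mk KΛ) ≤ 𝔮 := by rw [Ideal.mk_ker]; exact hK𝔮
  have h𝔮'' : 𝔮''.IsPrime := Ideal.map_isPrime_of_surjective Ideal.Quotient.mk_surjective hker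
  have hcomap : 𝔮''.comap (Ideal.Quotient.mk KΛ) = 𝔮 :=
    (Ideal.comap_map_of_surjective' _ Ideal.Quotient.mk_surjective 𝔮).trans (sup_eq_left.2 hker)
  obtain ⟨hnil, RS, _, _, _, S'', _, _, _, _, _, _, βS, h'', hβSk, hβSx, hcomm⟩ :=
    exists_reduced_factor φ 𝔮 α a ζ hlift yt y hev G hG hGloc θ Q hQs hQθ γ ω w hγ hωG hwω
      ιP hrC T hT𝔮 Lx β
      hβα hβx (fun i j => by
        rw [hβζ]
        show _ = algebraMap Λ (Localization.AtPrime 𝔮) (rho T ^ (n * Lx i)) * w i j
        rw [hc, map_mul, map_mul, hwt (i, j), Algebra.smul_def, map_mul, map_mul]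
        ring) K rfl 𝔮'' hcomap
  refine resolvable_of_chart (R := R) φ 𝔮 hM0 (B := B) (C := C) α a hImap.ge
    (fun j => SmoothAtBasics.mem_singularIdeal_iff_smooth.2 (hsingC _ (hBa j))) (fun i => he₀ i M (hM i)) φC
    (fun x => (congrArg β (ρ.commutes (α x))).trans (AlgHom.congr_fun hβα x)) πR hXR
    (fun i => (hπ i).symm ▸ Ideal.mul_mem_left _ _ (hu𝔮 i))
    (fun i => hbR Lx i ((le_max_left _ _).trans ((le_max_left _ _).trans (hLx i)))) (fun i => ?_) K rfl 𝔮'' rfl
    (Lq := Localization.AtPrime 𝔮'') hnil (𝔮''.comap (algebraMap (R ⧸ K) _)).primeCompl (fun x hx hx' => hx hx') (RS := RS) (S'' := S'')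
    (βS.comp (ρ.restrictScalars (MvPolynomial (Fin d) k)).toRingHom) (fun q => ?_) h'' fun x => hcomm (ρ x)
  · have h := hbΛ Lx i ((le_max_right _ _).trans ((le_max_left _ _).trans (hLx i)))
    have hfun : (fun j => algebraMap (R) Λ (πR j ^ M)) =
        fun j => (rho T ^ Lx j * u j) ^ M := funext fun j => by rw [map_pow]; exact congrArg (· ^ M) (hπ j)
    rw [← congr_fun hfun i, ← hfun] at h
    exact h
  · show βS (ρ (algebraMap (MvPolynomial (Fin d) k) C q)) = _
    rw [IsScalarTower.algebraMap_apply (MvPolynomial (Fin d) k) B C, ρ.commutes]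
    refine RingHom.congr_fun (f := βS.comp (algebraMap (MvPolynomial (Fin d) k) B))
      (g := (algebraMap _ S'').comp ((Ideal.Quotient.mk K).comp
        (algebraMap (MvPolynomial (Fin d) k) (R)))) ?_ q
    refine MvPolynomial.ringHom_ext (fun c => ?_) (fun i => ?_)
    · show βS (algebraMap (MvPolynomial (Fin d) k) B (algebraMap k (MvPolynomial (Fin d) k) c)) = _
      rw [← IsScalarTower.algebraMap_apply k (MvPolynomial (Fin d) k) B, hβSk]
      exact congrArg (fun z => algebraMap _ S'' (Ideal.Quotient.mk K z))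
        ((MvPolynomial.aeval (R := k) πR).commutes c).symm
    · show βS _ = algebraMap _ S'' (Ideal.Quotient.mk K _)
      rw [hβSx]
      exact congrArg (fun z => algebraMap _ S'' (Ideal.Quotient.mk K z)) (hXR i).symm

end Groth.Calg1.Popescu
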